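import Cfsg.Agent.H614.Weight
import Cfsg.Agent.H614.Union
import Cfsg.Prelude.Def_BlockRank
set_option linter.all false

-- part: H614/SameBlock
section
/-!
# Characters of a symmetric group in the same `p`-block have the same `p`-core

The easy half of Nakayama's conjecture: `SameBlock M (ch β) (ch γ) → SameCol p β γ`.
-/

set_option autoImplicit false
set_option linter.unusedSectionVars false

namespace Cfsg.Agent.H614

open Finset Cfsg Cfsg.Agent.Characters.Core
open scoped ComplexConjugate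

universe u

variable {α : Type u} [Fintype α] [DecidableEq α] {m : ℕ}

/-- The irreducible characters of a given colour. -/
def colSet (p : ℕ) (α : Type u) [Fintype α] [DecidableEq α] (β : Fin m → ℕ) :
    Set (IrrCharacter (Equiv.Perm α)) :=
  {χ | ∃ γ : Fin m → ℕ, StrictMono γ ∧ ∑ i, γ i = Fintype.card α + ∑ i : Fin m, (i : ℕ) ∧
    (χ : Equiv.Perm α → ℂ) = ch α γ ∧ SameCol p β γ}

theorem separated_colSet [Fintype (IrrCharacter (Equiv.Perm α))] {p : ℕ} (hp : p.Prime)
    (hm : Fintype.card α ≤ m) (β : Fin m → ℕ) : Separated p (colSet p α β) := by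
  classical
  rintro χ ⟨γ, hγ, hs, hχ, hc⟩ ψ hψ
  obtain ⟨δ, hδ, hsδ, hψδ⟩ := irr_eq hm ψ.2
  have hne : ¬ SameCol p γ δ := by
    intro h
    exact hψ ⟨δ, hδ, hsδ, hψδ, hc.trans h⟩
  have h := sum_pRegular_eq_zero (α := α) hp hm hs hne
  refine Eq.trans ?_ h
  refine Finset.sum_congr rfl fun g _ => ?_
  rw [hχ, hψδ]

/-- **Characters of a symmetric group in the same `p`-block have the same colour (`p`-core).** -/
theorem sameCol_of_sameBlock {p : ℕ} [hp : Fact p.Prime] {M : Ideal AlgInt}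
    (hM : IsPModular p M) (hm : Fintype.card α ≤ m) {β γ : Fin m → ℕ} (hβ : StrictMono β)
    (hγ : StrictMono γ) (hsβ : ∑ i, β i = Fintype.card α + ∑ i : Fin m, (i : ℕ))
    (hsγ : ∑ i, γ i = Fintype.card α + ∑ i : Fin m, (i : ℕ))
    (h : SameBlock M (ch α β) (ch α γ)) : SameCol p β γ := by
  classical
  have : Finite (IrrCharacter (Equiv.Perm α)) := finite_irr
  have : Fintype (IrrCharacter (Equiv.Perm α)) := Fintype.ofFinite _
  have h1 := blockOf_subset_of_separated hM (separated_colSet (α := α) hp.out hm β)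
    (χ := ⟨ch α β, isIrr_ch hβ hsβ⟩) ⟨β, hβ, hsβ, rfl, SameCol.refl p β⟩
  have h2 : (⟨ch α γ, isIrr_ch hγ hsγ⟩ : IrrCharacter (Equiv.Perm α)) ∈ colSet p α β := h1 h
  obtain ⟨δ, hδ, hsδ, hχ, hc⟩ := h2
  have h3 : γ = δ := ch_inj hγ hδ hsγ hχ
  rw [h3]; exact hc

end Cfsg.Agent.H614
end

-- part: H614/Rank
section
/-!
# The `p`-regular rank of a block of a symmetric group

The `p`-regular parts of the characters of a block of weight `w ≥ 1` span a space of dimension at most
`(p - 1) p ^ (w - 1)`.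
-/

set_option autoImplicit false
set_option linter.unusedSectionVars false

namespace Cfsg.Agent.H614

open Finset Cfsg Cfsg.Agent.Characters.Core

universe u

section Abstract

variable {m : ℕ} {W : Type*} [AddCommGroup W] [Module ℂ W] {Φ : (Fin m → ℕ) → W}

/-- Raising relations. -/
def UpRel (p : ℕ) (Φ : (Fin m → ℕ) → W) : Prop :=
  ∀ γ : Fin m → ℕ, ∀ r, 0 < r → ∑ j, Φ (up γ j (p * r)) = 0

/-- Raising on the `i`-th runner. -/
def Psi (Φ : (Fin m → ℕ) → W) (p i r : ℕ) : (Fin m → ℕ) → W :=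
  fun γ => ∑ k, if γ k % p = i then Φ (up γ k (p * r)) else 0

theorem Psi_alt (hΦ : Alt Φ) (p i r : ℕ) : Alt (Psi Φ p i r) := by
  intro σ β
  unfold Psi
  rw [Finset.smul_sum, ← Equiv.sum_comp σ (fun j => sg σ • (if β j % p = i then Φ (up β j (p * r)) else 0))]
  refine Finset.sum_congr rfl fun j _ => ?_
  rw [up_comp, hΦ σ]
  simp only [Function.comp_apply]
  split_ifs <;> simp

theorem Psi_upRel {p : ℕ} (hΦ : UpRel p Φ) (i r : ℕ) : UpRel p (Psi Φ p i r) := by
  intro γ r' hr'
  unfold Psi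
  rw [Finset.sum_comm]
  refine Finset.sum_eq_zero fun k _ => ?_
  by_cases hk : γ k % p = i
  · rw [← hΦ (up γ k (p * r)) r' hr']
    refine Finset.sum_congr rfl fun j _ => ?_
    rw [up_mod (dvd_mul_right p r') γ j k, if_pos hk, up_up_comm]
  · refine Finset.sum_eq_zero fun j _ => ?_
    rw [up_mod (dvd_mul_right p r') γ j k, if_neg hk]

theorem sum_Psi {p : ℕ} (hp : 0 < p) (hΦ : UpRel p Φ) {r : ℕ} (hr : 0 < r) (γ : Fin m → ℕ) :
    ∑ i ∈ range p, Psi Φ p i r γ = 0 := by
  unfold Psi
  rw [Finset.sum_comm]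
  refine Eq.trans (Finset.sum_congr rfl fun k _ => ?_) (hΦ γ r hr)
  rw [Finset.sum_ite_eq, if_pos (mem_range.mpr (Nat.mod_lt _ hp))]

theorem two_torsion_module (w : W) (h : w + w = 0) : w = 0 := by
  rw [← two_smul ℂ w, smul_eq_zero] at h
  rcases h with h | h
  · norm_num at h
  · exact h

theorem energy_Psi (hΦ : Alt Φ) {p w : ℕ} (β : Fin m → ℕ) (h : ∑ j, β j / p = w + npairs p β) :
    ∑ j, ∑ r ∈ range (β j / p), Psi Φ p (β j % p) (r + 1) (dn β j (p * (r + 1))) = w • Φ β := by
  have h1 := energy two_torsion_module hΦ p β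
  rw [h, add_smul] at h1
  exact add_right_cancel h1

/-- The bound. -/
def bb (p : ℕ) : ℕ → ℕ
  | 0 => 1
  | w + 1 => (p - 1) * p ^ w

theorem sum_bb {p : ℕ} (hp : 0 < p) (w : ℕ) : ∑ v ∈ range (w + 1), bb p v = p ^ w := by
  induction w with
  | zero => simp [bb]
  | succ w ih =>
    rw [Finset.sum_range_succ, ih]
    simp only [bb]
    obtain ⟨q, rfl⟩ : ∃ q, p = q + 1 := ⟨p - 1, by omega⟩
    rw [Nat.add_sub_cancel, pow_succ]; ring

theorem rank_le [DecidableEq W] {p : ℕ} (hp : 0 < p) (w : ℕ) (β₀ : Fin m → ℕ) :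
    ∀ Φ : (Fin m → ℕ) → W, Alt Φ → UpRel p Φ → ∃ T : Finset W, T.card ≤ bb p w ∧
      ∀ γ : Fin m → ℕ, SameCol p β₀ γ → ∑ j, γ j / p = w + npairs p γ →
        Φ γ ∈ Submodule.span ℂ (T : Set W) := by
  induction w using Nat.strong_induction_on with
  | _ w ih =>
  intro Φ hΦ hR
  rcases Nat.eq_zero_or_pos w with rfl | hw
  · by_cases hex : ∃ γ : Fin m → ℕ, Function.Injective γ ∧ SameCol p β₀ γ ∧
      ∑ j, γ j / p = npairs p γ
    · obtain ⟨γ₁, hinj, hc, h⟩ := hex
      refine ⟨{Φ γ₁}, by simp [bb], fun γ hγ hγ' => ?_⟩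
      by_cases hi : Function.Injective γ
      · obtain ⟨σ, rfl⟩ := exists_perm_of_weight_zero hp hinj hi h (by simpa using hγ') (hc.symm.trans hγ)
        rw [hΦ, ← Int.cast_smul_eq_zsmul ℂ]
        exact Submodule.smul_mem _ _ (Submodule.subset_span (by simp))
      · rw [hΦ.eq_zero_of_not_injective two_torsion_module hi]
        exact Submodule.zero_mem _
    · refine ⟨∅, by simp, fun γ hγ hγ' => ?_⟩
      rw [hΦ.eq_zero_of_not_injective two_torsion_module (fun hi => hex ⟨γ, hi, hγ, by simpa using hγ'⟩)]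
      exact Submodule.zero_mem _
  · -- choose generators
    have hch : ∀ r i : ℕ, ∃ T : Finset W, (r < w → T.card ≤ bb p (w - (r + 1))) ∧
        (r < w → ∀ γ : Fin m → ℕ, SameCol p β₀ γ → ∑ j, γ j / p = (w - (r + 1)) + npairs p γ →
          Psi Φ p i (r + 1) γ ∈ Submodule.span ℂ (T : Set W)) := by
      intro r i
      by_cases hr : r < w
      · obtain ⟨T, h1, h2⟩ := ih (w - (r + 1)) (by omega) _ (Psi_alt hΦ p i (r + 1))
          (Psi_upRel hR i (r + 1))
        exact ⟨T, fun _ => h1, fun _ => h2⟩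
      · exact ⟨∅, fun h => absurd h hr, fun h => absurd h hr⟩
    choose T hT1 hT2 using hch
    refine ⟨(range w).biUnion fun r => (Finset.Ico 1 p).biUnion fun i => T r i, ?_, ?_⟩
    · refine (Finset.card_biUnion_le).trans ?_
      have h1 : ∀ r ∈ range w, ((Finset.Ico 1 p).biUnion fun i => T r i).card ≤
          (p - 1) * bb p (w - (r + 1)) := by
        intro r hr
        refine (Finset.card_biUnion_le).trans ?_
        refine (Finset.sum_le_card_nsmul _ _ (bb p (w - (r + 1))) fun i _ => hT1 r i (mem_range.mp hr)).trans ?_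
        simp
      refine (Finset.sum_le_sum h1).trans ?_
      rw [← Finset.mul_sum]
      obtain ⟨v, rfl⟩ : ∃ v, w = v + 1 := ⟨w - 1, by omega⟩
      have h2 : ∑ r ∈ range (v + 1), bb p (v + 1 - (r + 1)) = p ^ v := by
        rw [← sum_bb hp v, ← Finset.sum_range_reflect (fun u => bb p u)]
        refine Finset.sum_congr rfl fun r hr => ?_
        congr 1
        omega
      rw [h2]
      exact le_of_eq rfl
    · intro γ hγ hw'
      have hmem : ∀ r, r < w → ∀ i, i < p → ∀ δ : Fin m → ℕ, SameCol p β₀ δ →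
          ∑ j, δ j / p = (w - (r + 1)) + npairs p δ → Psi Φ p i (r + 1) δ ∈
          Submodule.span ℂ (((range w).biUnion fun r => (Finset.Ico 1 p).biUnion fun i => T r i : Finset W) : Set W) := by
        intro r hr i hi δ hδ hδ'
        have hpos : ∀ i, 1 ≤ i → i < p → Psi Φ p i (r + 1) δ ∈
          Submodule.span ℂ (((range w).biUnion fun r => (Finset.Ico 1 p).biUnion fun i => T r i : Finset W) : Set W) := by
          intro i h1 hi
          refine Submodule.span_mono ?_ (hT2 r i hr δ hδ hδ')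
          intro x hx
          rw [Finset.mem_coe, Finset.mem_biUnion]
          refine ⟨r, mem_range.mpr hr, ?_⟩
          rw [Finset.mem_biUnion]
          exact ⟨i, Finset.mem_Ico.mpr ⟨h1, hi⟩, hx⟩
        rcases Nat.eq_zero_or_pos i with rfl | h1
        · have h2 := sum_Psi hp hR (Nat.succ_pos r) δ
          rw [Finset.range_eq_Ico, Finset.sum_eq_sum_Ico_succ_bot hp] at h2
          rw [Nat.succ_eq_add_one] at h2
          rw [eq_neg_of_add_eq_zero_left h2]
          apply Submodule.neg_mem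
          refine Submodule.sum_mem _ fun i hi => ?_
          have := Finset.mem_Ico.mp hi
          exact hpos i (by omega) this.2
        · exact hpos i h1 hi
      have hsum := energy_Psi hΦ γ hw'
      have h3 : (w : ℂ) • Φ γ ∈
          Submodule.span ℂ (((range w).biUnion fun r => (Finset.Ico 1 p).biUnion fun i => T r i : Finset W) : Set W) := by
        rw [Nat.cast_smul_eq_nsmul, ← hsum]
        refine Submodule.sum_mem _ fun j _ => Submodule.sum_mem _ fun r hr => ?_
        have hr1 := mem_range.mp hr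
        have hle : p * (r + 1) ≤ γ j :=
          le_trans (Nat.mul_le_mul_left _ hr1) (Nat.mul_div_le _ _)
        by_cases hrw : r < w
        · apply hmem r hrw _ (Nat.mod_lt _ hp)
          · exact hγ.trans (sameCol_dn (dvd_mul_right p _) γ j hle).symm
          · rw [npairs_of_mod (dn_mod (dvd_mul_right p (r + 1)) γ j hle)]
            have := sum_div_dn hp γ j hle
            omega
        · rw [(Psi_alt hΦ p (γ j % p) (r + 1)).eq_zero_of_not_injective two_torsion_module]
          · exact Submodule.zero_mem _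
          · exact not_injective_dn hp hw' j hle (by omega)
      have h4 : ((w : ℂ)⁻¹ * (w : ℂ)) • Φ γ ∈
          Submodule.span ℂ (((range w).biUnion fun r => (Finset.Ico 1 p).biUnion fun i => T r i : Finset W) : Set W) := by
        rw [mul_smul]; exact Submodule.smul_mem _ _ h3
      rwa [inv_mul_cancel₀ (by exact_mod_cast hw.ne'), one_smul] at h4

end Abstract

section Group

variable {α : Type u} [Fintype α] [DecidableEq α] {m : ℕ}

theorem isPRegular_iff {p : ℕ} (g : Equiv.Perm α) : IsPRegular p g ↔ ¬ p ∣ orderOf g := Iff.rfl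

theorem alt_pRegular (p : ℕ) : Alt (fun γ : Fin m → ℕ => pRegularPart p (ch α γ)) := by
  intro σ β
  funext g
  simp only [pRegularPart, Pi.smul_apply]
  split_ifs
  · rw [ch_apply, ch_apply, FM_alt]
    simp
  · simp

theorem upRel_pRegular {p : ℕ} (hp : p.Prime) (hm : Fintype.card α ≤ m) :
    UpRel p (fun γ : Fin m → ℕ => pRegularPart p (ch α γ)) := by
  intro γ r hr
  funext g
  rw [Finset.sum_apply]
  simp only [pRegularPart]
  by_cases hg : IsPRegular p g
  · simp only [if_pos hg]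
    have h1 := raise_eq (m := m) (Nat.mul_pos hp.pos hr) (s := ty g) (by rw [ty_sum]; exact hm)
      (ty_pos g) γ
    have h2 : (ty g).count (p * r) = 0 := by
      rw [Multiset.count_eq_zero]
      intro hmem
      rw [isPRegular_iff, pRegular_iff hp, Ep_eq_zero_iff (ty_pos g)] at hg
      exact hg _ hmem (dvd_mul_right p r)
    rw [h2] at h1
    simp only [mul_zero, Nat.cast_zero, zero_mul] at h1
    simp only [ch_apply]
    rw [← Int.cast_sum, h1]
    simp
  · simp only [if_neg hg, Finset.sum_const_zero]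
    rfl

/-- Tuples of the same colour and sum have the same weight. -/
theorem weight_of_sameCol {p : ℕ} (hp : 0 < p) {β γ : Fin m → ℕ} (h : SameCol p β γ)
    (hs : ∑ i, β i = ∑ i, γ i) {w : ℕ} (hw : ∑ j, β j / p = w + npairs p β) :
    ∑ j, γ j / p = w + npairs p γ := by
  have h1 : ∀ δ : Fin m → ℕ, ∑ j, δ j = p * ∑ j, δ j / p + ∑ j, δ j % p := by
    intro δ
    rw [Finset.mul_sum, ← Finset.sum_add_distrib]
    exact Finset.sum_congr rfl fun j _ => (Nat.div_add_mod _ _).symm
  have h2 := h1 β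
  have h3 := h1 γ
  rw [sum_mod_of_sameCol h] at h2
  rw [← npairs_of_sameCol h, ← hw]
  apply Nat.eq_of_mul_eq_mul_left hp
  omega

/-- The characters of a block of a symmetric group. -/
theorem mem_blockOf {p : ℕ} [hp : Fact p.Prime] {M : Ideal AlgInt} (hM : IsPModular p M)
    (hm : Fintype.card α ≤ m) {β : Fin m → ℕ} (hβ : StrictMono β)
    (hs : ∑ i, β i = Fintype.card α + ∑ i : Fin m, (i : ℕ)) {ψ : IrrCharacter (Equiv.Perm α)}
    (hψ : SameBlock M (ch α β) ψ) :
    ∃ γ : Fin m → ℕ, StrictMono γ ∧ ∑ i, γ i = Fintype.card α + ∑ i : Fin m, (i : ℕ) ∧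
      (ψ : Equiv.Perm α → ℂ) = ch α γ ∧ SameCol p β γ := by
  obtain ⟨γ, hγ, hsγ, hψγ⟩ := irr_eq hm ψ.2
  refine ⟨γ, hγ, hsγ, hψγ, sameCol_of_sameBlock hM hm hβ hγ hs hsγ ?_⟩
  rw [← hψγ]; exact hψ

/-- **The `p`-regular rank of a block of weight `w`.** -/
theorem blockRank_le {p : ℕ} [hp : Fact p.Prime] {M : Ideal AlgInt} (hM : IsPModular p M)
    (hm : Fintype.card α ≤ m) {β : Fin m → ℕ} (hβ : StrictMono β)
    (hs : ∑ i, β i = Fintype.card α + ∑ i : Fin m, (i : ℕ)) {w : ℕ}
    (hw : ∑ j, β j / p = w + npairs p β) {B : Set (IrrCharacter (Equiv.Perm α))}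
    (hB : ∀ ψ ∈ B, SameBlock M (ch α β) (ψ : Equiv.Perm α → ℂ)) : blockRank p B ≤ bb p w := by
  classical
  obtain ⟨T, hT, hT'⟩ := rank_le hp.out.pos w β (fun γ : Fin m → ℕ => pRegularPart p (ch α γ))
    (alt_pRegular p) (upRel_pRegular hp.out hm)
  refine le_trans ?_ hT
  unfold blockRank
  refine le_trans (Submodule.finrank_mono (t := Submodule.span ℂ (T : Set (Equiv.Perm α → ℂ))) ?_)
    (finrank_span_finset_le_card T)
  rw [Submodule.span_le]
  rintro _ ⟨ψ, hψ, rfl⟩
  obtain ⟨γ, hγ, hsγ, hψγ, hc⟩ := mem_blockOf hM hm hβ hs (hB ψ hψ)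
  simp only [hψγ]
  exact hT' γ hc (weight_of_sameCol hp.out.pos hc (hs.trans hsγ.symm) hw)

end Group

end Cfsg.Agent.H614
end
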