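import Cfsg.Agent.H614.Defect
import Cfsg.Agent.S0929
import Cfsg.Agent.S0963
import Cfsg.Agent.Blocks.PRegular
set_option linter.all false

-- part: H614/Cover
section
/-!
# Blocks of `C_G(x)` inducing a block and lying over a character of a normal subgroup

* `exists_inducing_over`: if `y ↦ χ (x y)` is not orthogonal to a function `ζ` on a subgroup `Y` of
  `C_G(x)` vanishing at the `p`-singular elements, some block `b` of `C_G(x)` inducing the block of `χ`
  has a member not orthogonal to `ζ`;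
* `sameBlock_of_over`: if `Q` is a normal `p`-subgroup and `Y` a normal subgroup containing all the
  `p`-regular elements of `C_G(Q)`, then irreducible characters of `G` over the same character of `Y` lie
  in the same block.
-/

set_option autoImplicit false
set_option linter.unusedSectionVars false

namespace Cfsg.Agent.H614

open Finset Cfsg Cfsg.Agent.Characters.Core
open scoped ComplexConjugate

universe u

variable {G : Type u} [Group G] {p : ℕ} [Fact p.Prime] {M : Ideal AlgInt}

theorem exists_inducing_over [Finite G] (hM : IsPModular p M) {x : G}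
    (hx : ∃ k : ℕ, orderOf x = p ^ k)
    {B : Set (IrrCharacter G)} (hB : IsPBlock M B) {χ : IrrCharacter G} (hχ : χ ∈ B)
    (Y : Subgroup (Subgroup.centralizer ({x} : Set G))) [Fintype Y] {ζ : Y → ℂ}
    (hζ : ∀ y : Y, p ∣ orderOf (y : Subgroup.centralizer ({x} : Set G)) → ζ y = 0)
    (hne : ∑ y : Y, (χ : G → ℂ) (x * ((y : Subgroup.centralizer ({x} : Set G)) : G)) *
      conj (ζ y) ≠ 0) :
    ∃ b : Set (IrrCharacter (Subgroup.centralizer ({x} : Set G))),
      IsInducedBlock M (Subgroup.centralizer ({x} : Set G)) b B ∧ ∃ ψ ∈ b,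
        ∑ y : Y, (ψ : Subgroup.centralizer ({x} : Set G) → ℂ) y * conj (ζ y) ≠ 0 := by
  classical
  have hMp : M.IsPrime := hM.2.1.isPrime
  by_contra hno
  push Not at hno
  let C := Subgroup.centralizer ({x} : Set G)
  let θ : C → ℂ := fun c => (χ : G → ℂ) (x * (c : G))
  have hθ : IsClassFunction C θ := by
    intro g k
    show (χ : G → ℂ) (x * ((k * g * k⁻¹ : C) : G)) = (χ : G → ℂ) (x * (g : G))
    have hk : x * (k : G) = k * x := (Subgroup.mem_centralizer_iff.1 k.2 x rfl)
    have e : x * ((k * g * k⁻¹ : C) : G) = (k : G) * (x * (g : G)) * (k : G)⁻¹ := by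
      rw [Subgroup.coe_mul, Subgroup.coe_mul, Subgroup.coe_inv]
      simp only [← mul_assoc, hk]
    rw [e]
    exact isIrr_isClassFunction χ.2 _ _
  have : Finite (IrrCharacter C) := finite_irr
  let _ : Fintype (IrrCharacter C) := Fintype.ofFinite _
  let _ : Fintype C := Fintype.ofFinite C
  apply hne
  have h1 : ∀ c, θ c = ∑ ψ : IrrCharacter C, classInner θ (ψ : C → ℂ) * (ψ : C → ℂ) c := by
    intro c
    conv_lhs => rw [classFunction_eq_sum hθ]
    rw [Finset.sum_apply]
    rfl
  have h2 : ∑ y : Y, (χ : G → ℂ) (x * ((y : C) : G)) * conj (ζ y) =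
      ∑ ψ : IrrCharacter C, classInner θ (ψ : C → ℂ) *
        ∑ y : Y, (ψ : C → ℂ) y * conj (ζ y) := by
    have h3 : ∀ y : Y, (χ : G → ℂ) (x * ((y : C) : G)) * conj (ζ y) =
        ∑ ψ : IrrCharacter C, classInner θ (ψ : C → ℂ) * ((ψ : C → ℂ) y * conj (ζ y)) := by
      intro y
      have h4 : (χ : G → ℂ) (x * ((y : C) : G)) = θ y := rfl
      rw [h4, h1, Finset.sum_mul]
      exact Finset.sum_congr rfl fun ψ _ => by ring
    rw [Finset.sum_congr rfl (fun y _ => h3 y), Finset.sum_comm]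
    exact Finset.sum_congr rfl fun ψ _ => by rw [Finset.mul_sum]
  rw [h2, ← Finset.sum_fiberwise_of_maps_to
    (g := fun ψ : IrrCharacter C => blockOf M (ψ : C → ℂ))
    (t := Finset.univ.image (fun ψ : IrrCharacter C => blockOf M (ψ : C → ℂ)))
    (fun ψ _ => Finset.mem_image_of_mem _ (Finset.mem_univ ψ))]
  refine Finset.sum_eq_zero fun b hb => ?_
  obtain ⟨ψ₀, -, rfl⟩ := Finset.mem_image.mp hb
  by_cases hind : IsInducedBlock M C (blockOf M (ψ₀ : C → ℂ)) B
  · refine Finset.sum_eq_zero fun ψ hψ => ?_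
    have h5 : ψ ∈ blockOf M (ψ₀ : C → ℂ) := by
      rw [← (Finset.mem_filter.mp hψ).2]
      exact Blocks.Basic.mem_blockOf_self ψ
    rw [hno _ hind ψ h5, mul_zero]
  · have h3 : ∀ y : C, ¬ p ∣ orderOf y →
        ∑ ψ ∈ Finset.univ.filter (fun ψ : IrrCharacter C =>
            blockOf M (ψ : C → ℂ) = blockOf M (ψ₀ : C → ℂ)),
          classInner θ (ψ : C → ℂ) * (ψ : C → ℂ) y = 0 := by
      intro y hy
      have h3 := S0923.result p M hM x hx B hB χ hχ (blockOf M (ψ₀ : C → ℂ)) ⟨ψ₀, rfl⟩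
        hind y hy
      have h4 : ∑ᶠ ψ ∈ blockOf M (ψ₀ : C → ℂ), classInner θ (ψ : C → ℂ) * (ψ : C → ℂ) y = 0 := h3
      rw [finsum_mem_eq_toFinset_sum] at h4
      rw [← h4]
      refine Finset.sum_congr ?_ fun _ _ => rfl
      ext ψ
      simp only [Finset.mem_filter, Finset.mem_univ, true_and, Set.mem_toFinset]
      rw [Blocks.Basic.blockOf_eq_iff, Blocks.Basic.mem_blockOf]
      exact ⟨Blocks.Basic.sameBlock_symm, Blocks.Basic.sameBlock_symm⟩
    have h4 : ∑ ψ ∈ Finset.univ.filter (fun ψ : IrrCharacter C =>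
            blockOf M (ψ : C → ℂ) = blockOf M (ψ₀ : C → ℂ)),
        classInner θ (ψ : C → ℂ) * ∑ y : Y, (ψ : C → ℂ) y * conj (ζ y) =
        ∑ y : Y, (∑ ψ ∈ Finset.univ.filter (fun ψ : IrrCharacter C =>
            blockOf M (ψ : C → ℂ) = blockOf M (ψ₀ : C → ℂ)),
          classInner θ (ψ : C → ℂ) * (ψ : C → ℂ) y) * conj (ζ y) := by
      simp only [Finset.mul_sum, Finset.sum_mul]
      rw [Finset.sum_comm]
      exact Finset.sum_congr rfl fun y _ => Finset.sum_congr rfl fun ψ _ => by ring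
    rw [h4]
    refine Finset.sum_eq_zero fun y _ => ?_
    by_cases hy : p ∣ orderOf (y : C)
    · rw [hζ y hy, map_zero, mul_zero]
    · rw [h3 y hy, zero_mul]

/-- Existence of defect groups. -/
theorem exists_defectGroup [Finite G] (hM : IsPModular p M) {B : Set (IrrCharacter G)}
    (hB : IsPBlock M B) : ∃ D : Subgroup G, IsDefectGroup p M B D := by
  obtain ⟨k, hk⟩ := S0906.result p M hM B hB
  obtain ⟨S⟩ : Nonempty (Sylow p (Subgroup.centralizer ({k} : Set G))) := inferInstance
  exact ⟨_, k, hk, S, rfl⟩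

/-- The central characters vanish modulo `M` at elements not centralizing a normal `p`-subgroup. -/
theorem memLocalIdeal_of_notMem_centralizer [Finite G] (hM : IsPModular p M) (Q : Subgroup G)
    [hQn : Q.Normal] (hQ : IsPGroup p Q) (χ : IrrCharacter G) {g : G}
    (hg : g ∉ Subgroup.centralizer (Q : Set G)) : MemLocalIdeal M (centralChar (χ : G → ℂ) g) := by
  have hMp : M.IsPrime := hM.2.1.isPrime
  by_contra hno
  have hB : IsPBlock M (blockOf M (χ : G → ℂ)) := ⟨χ, rfl⟩
  obtain ⟨D, hD⟩ := exists_defectGroup hM hB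
  obtain ⟨x, hgx, hx, -⟩ := S0929.result p M hM _ hB D hD g
    ⟨χ, Blocks.Basic.mem_blockOf_self χ, hno⟩
  have h1 : Q ≤ D := (Cfsg.Agent.Lib.Cores.le_pCore hQn hQ).trans
    (S0912.result p M hM _ hB D hD)
  have h2 : x ∈ Subgroup.centralizer (Q : Set G) := by
    rw [Subgroup.mem_centralizer_iff] at hx ⊢
    intro q hq
    exact hx q (h1 hq)
  obtain ⟨c, hc⟩ := isConj_iff.mp hgx
  apply hg
  have h3 : g = c⁻¹ * x * c := by rw [← hc]; group
  rw [Subgroup.mem_centralizer_iff] at h2 ⊢
  intro q hq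
  have h4 := h2 (c * q * c⁻¹) (hQn.conj_mem q hq c)
  rw [h3]
  have h5 : c * q * c⁻¹ * x * c = x * (c * q * c⁻¹) * c := by rw [h4]
  calc q * (c⁻¹ * x * c) = c⁻¹ * (c * q * c⁻¹ * x * c) := by group
    _ = c⁻¹ * (x * (c * q * c⁻¹) * c) := by rw [h5]
    _ = c⁻¹ * x * c * q := by group

/-- Irreducible characters over the same character of a normal subgroup containing all the
`p`-regular elements centralizing a normal `p`-subgroup lie in the same block. -/
theorem sameBlock_of_over [Fintype G] (hM : IsPModular p M) (Q : Subgroup G) [Q.Normal]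
    (hQ : IsPGroup p Q) (Y : Subgroup G) [Y.Normal] [Fintype Y]
    (hY : ∀ g : G, ¬ p ∣ orderOf g → g ∈ Subgroup.centralizer (Q : Set G) → g ∈ Y)
    (ζ : IrrCharacter Y) {χ ψ : IrrCharacter G}
    (h1 : classInner (fun n : Y => (χ : G → ℂ) n) (ζ : Y → ℂ) ≠ 0)
    (h2 : classInner (fun n : Y => (ψ : G → ℂ) n) (ζ : Y → ℂ) ≠ 0) :
    SameBlock M (χ : G → ℂ) (ψ : G → ℂ) := by
  have hMp : M.IsPrime := hM.2.1.isPrime
  refine Blocks.PRegular.sameBlock_of_isPRegular hM χ.2 ψ.2 fun g hg => ?_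
  by_cases hc : g ∈ Subgroup.centralizer (Q : Set G)
  · have hgY := hY g hg hc
    have h3 := (S0963.result Y χ ζ).1 h1 ⟨g, hgY⟩
    have h4 := (S0963.result Y ψ ζ).1 h2 ⟨g, hgY⟩
    simp only at h3 h4
    rw [h3, h4, sub_self]
    exact Blocks.Local.memLocalIdeal_zero
  · exact Blocks.Local.memLocalIdeal_sub (memLocalIdeal_of_notMem_centralizer hM Q hQ χ hc)
      (memLocalIdeal_of_notMem_centralizer hM Q hQ ψ hc)

/-- The induced block is unique. -/
theorem inducedBlock_unique (hM : IsPModular p M) {H : Subgroup G} {b : Set (IrrCharacter H)}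
    {B B' : Set (IrrCharacter G)} (h : IsInducedBlock M H b B) (h' : IsInducedBlock M H b B') :
    B = B' := by
  have hMp : M.IsPrime := hM.2.1.isPrime
  obtain ⟨ξ, hξ⟩ := Blocks.Basic.isPBlock_nonempty h.1
  obtain ⟨χ, hχ⟩ := Blocks.Basic.isPBlock_nonempty h.2.1
  obtain ⟨χ', hχ'⟩ := Blocks.Basic.isPBlock_nonempty h'.2.1
  refine Blocks.Basic.isPBlock_eq_of_sameBlock h.2.1 h'.2.1 hχ hχ' fun g => ?_
  exact Blocks.Local.memLocalIdeal_sub_trans
    (Blocks.Local.memLocalIdeal_sub_comm (h.2.2 ξ hξ χ hχ g)) (h'.2.2 ξ hξ χ' hχ' g)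

end Cfsg.Agent.H614
end

-- part: H614/Nakayama
section
/-!
# Nakayama's conjecture

Irreducible characters of a symmetric group with the same `p`-core lie in the same `p`-block
(`sameBlock_of_sameCol`; the converse is `sameCol_of_sameBlock`).
-/

set_option autoImplicit false
set_option linter.unusedSectionVars false

namespace Cfsg.Agent.H614

open Finset Cfsg Cfsg.Agent.Characters.Core
open scoped ComplexConjugate

universe u

/-! ### Permutations fixing the support of `z` -/

section Fix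

variable {α : Type u}

/-- The permutations fixing every point moved by `z`. -/
def fixS (z : Equiv.Perm α) : Subgroup (Equiv.Perm α) where
  carrier := {g | ∀ x, z x ≠ x → g x = x}
  mul_mem' := by
    intro g h hg hh x hx
    rw [Equiv.Perm.mul_apply, hh x hx, hg x hx]
  one_mem' := fun x _ => rfl
  inv_mem' := by
    intro g hg x hx
    rw [Equiv.Perm.inv_eq_iff_eq]
    exact (hg x hx).symm

theorem mem_fixS {z g : Equiv.Perm α} : g ∈ fixS z ↔ ∀ x, z x ≠ x → g x = x := Iff.rfl

theorem fixS_map {z g : Equiv.Perm α} (hg : g ∈ fixS z) {x : α} (hx : z x = x) :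
    z (g x) = g x := by
  by_contra h
  have h1 : g (g x) = g x := hg _ h
  have h2 : g x = x := g.injective h1
  rw [h2] at h
  exact h hx

theorem fixS_iff {z g : Equiv.Perm α} (hg : g ∈ fixS z) (x : α) : z (g x) = g x ↔ z x = x := by
  constructor
  · intro h
    by_contra h'
    rw [hg x h'] at h
    exact h' h
  · exact fixS_map hg

theorem fixS_comm {z g : Equiv.Perm α} (hg : g ∈ fixS z) : g * z = z * g := by
  ext x
  rw [Equiv.Perm.mul_apply, Equiv.Perm.mul_apply]
  by_cases hx : z x = x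
  · rw [hx, fixS_map hg hx]
  · rw [hg x hx]
    exact hg (z x) (fun h => hx (z.injective h))

theorem fixS_disjoint {z g : Equiv.Perm α} (hg : g ∈ fixS z) : Equiv.Perm.Disjoint z g := by
  intro x
  by_cases hx : z x = x
  · exact Or.inl hx
  · exact Or.inr (hg x hx)

theorem fixS_le_centralizer (z : Equiv.Perm α) :
    fixS z ≤ Subgroup.centralizer ({z} : Set (Equiv.Perm α)) := by
  intro g hg
  rw [Subgroup.mem_centralizer_singleton_iff]
  exact fixS_comm hg

theorem conj_mem_fixS {z g h : Equiv.Perm α} (hh : h * z = z * h) (hg : g ∈ fixS z) :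
    h * g * h⁻¹ ∈ fixS z := by
  intro x hx
  rw [Equiv.Perm.mul_apply, Equiv.Perm.mul_apply]
  have h1 : z (h⁻¹ x) ≠ h⁻¹ x := by
    intro h2
    apply hx
    have h3 : (h * z) (h⁻¹ x) = (z * h) (h⁻¹ x) := by rw [hh]
    rw [Equiv.Perm.mul_apply, h2, Equiv.Perm.mul_apply, ← Equiv.Perm.mul_apply h, mul_inv_cancel,
      Equiv.Perm.one_apply] at h3
    exact h3.symm
  rw [hg _ h1, ← Equiv.Perm.mul_apply, mul_inv_cancel, Equiv.Perm.one_apply]

instance normal_fixS (z : Equiv.Perm α) :
    ((fixS z).subgroupOf (Subgroup.centralizer ({z} : Set (Equiv.Perm α)))).Normal := by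
  constructor
  intro g hg h
  rw [Subgroup.mem_subgroupOf] at hg ⊢
  exact conj_mem_fixS (Subgroup.mem_centralizer_singleton_iff.mp h.2) hg

instance normal_cyc (z : Equiv.Perm α) :
    ((cyc z).subgroupOf (Subgroup.centralizer ({z} : Set (Equiv.Perm α)))).Normal := by
  constructor
  intro g hg h
  rw [Subgroup.mem_subgroupOf] at hg ⊢
  exact conj_mem_cyc (Subgroup.mem_centralizer_singleton_iff.mp h.2) hg

/-- If `z ^ p = 1`, `p` prime, then `z ^ k` fixes a moved point of `z` only if `p ∣ k`. -/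
theorem dvd_of_zpow_fix {z : Equiv.Perm α} {p : ℕ} (hp : p.Prime) (hz : z ^ p = 1) {x : α}
    (hx : z x ≠ x) {k : ℤ} (hk : (z ^ k) x = x) : (p : ℤ) ∣ k := by
  by_contra hno
  apply hx
  have hcop : IsCoprime (p : ℤ) k := by
    rw [Int.isCoprime_iff_gcd_eq_one]
    have h1 : Nat.Coprime p k.natAbs := (Nat.Prime.coprime_iff_not_dvd hp).mpr
      (fun h => hno (Int.natCast_dvd.mpr h))
    rw [Int.gcd_eq_natAbs]
    simpa using h1
  obtain ⟨a, b, hab⟩ := hcop
  have h2 : z = (z ^ k) ^ b := by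
    have h3 : z ^ (a * (p : ℤ) + b * k) = z := by rw [hab, zpow_one]
    rw [zpow_add, mul_comm a, zpow_mul, zpow_natCast, hz, one_zpow, one_mul, mul_comm b,
      zpow_mul] at h3
    exact h3.symm
  rw [h2]
  have h4 : ∀ c : ℤ, ((z ^ k) ^ c) x = x := fun c => Equiv.Perm.zpow_apply_eq_self_of_apply_eq_self hk c
  exact h4 b

/-- A `p`-regular permutation commuting with `cyc z` fixes the support of `z`. -/
theorem mem_fixS_of_pRegular [Finite α] {z : Equiv.Perm α} {p : ℕ} (hp : p.Prime) (hz : z ^ p = 1)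
    {g : Equiv.Perm α} (hg : ¬ p ∣ orderOf g) (hc : ∀ e ∈ cyc z, e * g = g * e) :
    g ∈ fixS z := by
  classical
  have : Fintype α := Fintype.ofFinite α
  intro x hx
  -- the cycle of `x`
  have hcyc : z.cycleOf x ∈ cyc z := by
    refine ⟨?_, fun y => ?_⟩
    · exact (Equiv.Perm.self_mem_cycle_factors_commute
        ((Equiv.Perm.cycleOf_mem_cycleFactorsFinset_iff).mpr (Equiv.Perm.mem_support.mpr hx)))
    · by_cases h : z.SameCycle x y
      · refine ⟨1, ?_⟩
        rw [zpow_one, h.cycleOf_apply]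
      · rw [Equiv.Perm.cycleOf_apply_of_not_sameCycle h]
  have h1 := hc _ hcyc
  have hzg : z * g = g * z := hc z ⟨rfl, fun y => ⟨1, rfl⟩⟩
  -- `g x` lies in the cycle of `x`
  have h2 : z.cycleOf x (g x) ≠ g x := by
    have h3 : (z.cycleOf x * g) x = (g * z.cycleOf x) x := by rw [h1]
    rw [Equiv.Perm.mul_apply, Equiv.Perm.mul_apply, Equiv.Perm.cycleOf_apply_self] at h3
    rw [h3]
    exact fun h => hx (g.injective h)
  have h3 : z.SameCycle x (g x) := by
    by_contra h
    exact h2 (Equiv.Perm.cycleOf_apply_of_not_sameCycle h)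
  obtain ⟨k, hk⟩ := h3
  -- powers of `g`
  have hcomm : Commute g (z ^ k) := (Commute.zpow_right (show Commute g z from hzg.symm) k)
  have h4 : ∀ n : ℕ, (g ^ n) x = ((z ^ k) ^ n) x := by
    intro n
    induction n with
    | zero => rfl
    | succ n ih =>
      rw [pow_succ', Equiv.Perm.mul_apply, ih, ← Equiv.Perm.mul_apply, (hcomm.pow_right n).eq,
        Equiv.Perm.mul_apply, ← hk, ← Equiv.Perm.mul_apply, ← pow_succ]
  have h5 := h4 (orderOf g)
  rw [pow_orderOf_eq_one, Equiv.Perm.one_apply, ← zpow_natCast, ← zpow_mul] at h5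
  have h6 := dvd_of_zpow_fix hp hz hx h5.symm
  have h7 : (p : ℤ) ∣ k := by
    rcases (Int.Prime.dvd_mul' hp h6) with h | h
    · exact h
    · exact absurd (Int.natCast_dvd_natCast.mp h) hg
  obtain ⟨c, rfl⟩ := h7
  rw [← hk, zpow_mul, zpow_natCast, hz, one_zpow, Equiv.Perm.one_apply]

end Fix

section Hom

variable {α : Type u} [Fintype α] [DecidableEq α]

/-- The action on the fixed points of `z`. -/
def toFix (z : Equiv.Perm α) :
    ((fixS z).subgroupOf (Subgroup.centralizer ({z} : Set (Equiv.Perm α)))) →*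
      Equiv.Perm {x : α // z x = x} where
  toFun y := ((y : Subgroup.centralizer ({z} : Set (Equiv.Perm α))) : Equiv.Perm α).subtypePerm
    (fixS_iff y.2)
  map_one' := by ext x; rfl
  map_mul' g h := by ext x; rfl

theorem ofSubtype_toFix (z : Equiv.Perm α)
    (y : (fixS z).subgroupOf (Subgroup.centralizer ({z} : Set (Equiv.Perm α)))) :
    Equiv.Perm.ofSubtype (toFix z y) =
      ((y : Subgroup.centralizer ({z} : Set (Equiv.Perm α))) : Equiv.Perm α) := by
  have hy : ((y : Subgroup.centralizer ({z} : Set (Equiv.Perm α))) : Equiv.Perm α) ∈ fixS z := y.2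
  refine Equiv.Perm.ofSubtype_subtypePerm (fixS_iff hy) ?_
  intro x hx
  by_contra h
  exact hx (hy x h)

theorem toFix_injective (z : Equiv.Perm α) : Function.Injective (toFix z) := by
  intro a b hab
  apply Subtype.ext
  apply Subtype.ext
  rw [← ofSubtype_toFix, ← ofSubtype_toFix, hab]

theorem toFix_surjective (z : Equiv.Perm α) : Function.Surjective (toFix z) := by
  intro g
  have h1 : Equiv.Perm.ofSubtype g ∈ fixS z := by
    intro x hx
    exact Equiv.Perm.ofSubtype_apply_of_not_mem g hx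
  refine ⟨⟨⟨Equiv.Perm.ofSubtype g, fixS_le_centralizer z h1⟩, h1⟩, ?_⟩
  ext x
  show (Equiv.Perm.ofSubtype g) x = _
  rw [Equiv.Perm.ofSubtype_apply_coe]

theorem cycleType_toFix (z : Equiv.Perm α)
    (y : (fixS z).subgroupOf (Subgroup.centralizer ({z} : Set (Equiv.Perm α)))) :
    (toFix z y).cycleType =
      ((y : Subgroup.centralizer ({z} : Set (Equiv.Perm α))) : Equiv.Perm α).cycleType := by
  rw [← ofSubtype_toFix, Equiv.Perm.cycleType_ofSubtype]

theorem card_fix (z : Equiv.Perm α) :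
    Fintype.card {x : α // z x = x} = Fintype.card α - z.cycleType.sum := by
  rw [← Equiv.Perm.card_fixedPoints]
  exact Fintype.card_congr (Equiv.refl _)

theorem ty_mul (z : Equiv.Perm α)
    (y : (fixS z).subgroupOf (Subgroup.centralizer ({z} : Set (Equiv.Perm α)))) :
    ty (z * ((y : Subgroup.centralizer ({z} : Set (Equiv.Perm α))) : Equiv.Perm α)) =
      z.cycleType + ty (toFix z y) := by
  have hy : ((y : Subgroup.centralizer ({z} : Set (Equiv.Perm α))) : Equiv.Perm α) ∈ fixS z := y.2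
  rw [ty_eq, ty_eq, (fixS_disjoint hy).cycleType_mul, cycleType_toFix, card_fix, Multiset.sum_add,
    Nat.sub_sub, add_assoc]

end Hom

section Core

variable {m : ℕ}

theorem sum_core_div {p : ℕ} (hp : 0 < p) {β : Fin m → ℕ} (hβ : Function.Injective β) :
    ∑ j, core p β j / p = npairs p (core p β) := by
  simp only [core_div hp]
  rw [sum_low p hβ, npairs_of_mod (core_mod β)]

/-- The strictly increasing core tuple of a colour and weight. -/
theorem exists_core {p : ℕ} (hp : 0 < p) {w n : ℕ} {β : Fin m → ℕ} (hβ : Function.Injective β)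
    (hw : ∑ j, β j / p = w + npairs p β) (hs : ∑ i, β i = n + ∑ i : Fin m, (i : ℕ)) :
    ∃ κ : Fin m → ℕ, StrictMono κ ∧ SameCol p β κ ∧ ∑ j, κ j / p = npairs p κ ∧
      p * w ≤ n ∧ ∑ i, κ i = (n - p * w) + ∑ i : Fin m, (i : ℕ) ∧
      ∀ γ : Fin m → ℕ, Function.Injective γ → SameCol p β γ → ∑ j, γ j / p = w + npairs p γ →
        ∃ f : ℤ, f ≠ 0 ∧ ∀ s : Multiset ℕ, FM (Multiset.replicate w p + s) γ = f * FM s κ := by
  set c := core p β with hc
  have hci : Function.Injective c := core_injective hp hβ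
  set σ := Tuple.sort c with hσ
  have hmono : Monotone (c ∘ σ) := Tuple.monotone_sort c
  have hst : StrictMono (c ∘ σ) := hmono.strictMono_of_injective (hci.comp σ.injective)
  have hcol : SameCol p β c := sameCol_of_mod (fun j => (core_mod β j).symm)
  have hcolσ : SameCol p β (c ∘ σ) := hcol.trans (sameCol_comp p c σ).symm
  have hsum : ∑ i, (c ∘ σ) i = ∑ i, c i := Equiv.sum_comp σ c
  have hsum' : ∑ i, (c ∘ σ) i / p = ∑ i, c i / p := Equiv.sum_comp σ (fun i => c i / p)
  have hw0 : ∑ j, (c ∘ σ) j / p = npairs p (c ∘ σ) := by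
    rw [hsum', sum_core_div hp hβ, npairs_of_sameCol (sameCol_comp p c σ)]
  have h1 : ∑ j, c j + p * w = ∑ j, β j := sum_core hβ hw
  have h3 := sum_le_of_injective hci
  refine ⟨c ∘ σ, hst, hcolσ, hw0, by omega, by rw [hsum]; omega, ?_⟩
  intro γ hγ hγc hγw
  obtain ⟨f, hf, hf'⟩ := FM_hooks hp w hγ hγw
  obtain ⟨τ, hτ⟩ := exists_perm_of_weight_zero hp hst.injective (core_injective hp hγ) hw0
    (sum_core_div hp hγ)
    ((hcolσ.symm.trans hγc).trans (sameCol_of_mod (fun j => (core_mod γ j).symm)))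
  refine ⟨f * sg τ, ?_, fun s => ?_⟩
  · have h5 := sg_mul_self τ
    intro h6
    rcases mul_eq_zero.mp h6 with h7 | h7
    · exact hf.ne' (by exact_mod_cast h7)
    · rw [h7] at h5; norm_num at h5
  · rw [hf', hτ, FM_alt, smul_eq_mul, mul_assoc]

end Core

section Main

variable {α : Type u} [Fintype α] [DecidableEq α] {m : ℕ} {p : ℕ} [hp : Fact p.Prime]
  {M : Ideal AlgInt}

/-- The character of the group of permutations fixing the support of `z`. -/
noncomputable def zeta (z : Equiv.Perm α) (κ : Fin m → ℕ) :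
    (fixS z).subgroupOf (Subgroup.centralizer ({z} : Set (Equiv.Perm α))) → ℂ :=
  (ch {x : α // z x = x} κ) ∘ (toFix z)

theorem isIrr_zeta (z : Equiv.Perm α) {κ : Fin m → ℕ} (hκ : StrictMono κ)
    (hs : ∑ i, κ i = Fintype.card {x : α // z x = x} + ∑ i : Fin m, (i : ℕ)) :
    IsIrrCharacter _ (zeta z κ) :=
  isIrr_comp (toFix z) (toFix_surjective z) (isIrr_ch hκ hs)

/-- The block of `C(z)` attached to the core, `z` a product of `w` cycles of length `p`. -/
theorem exists_block_centralizer (hM : IsPModular p M) {β : Fin m → ℕ} (hβ : StrictMono β)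
    (hs : ∑ i, β i = Fintype.card α + ∑ i : Fin m, (i : ℕ)) {w : ℕ} {z : Equiv.Perm α}
    [Fintype ((fixS z).subgroupOf (Subgroup.centralizer ({z} : Set (Equiv.Perm α))))]
    (hz : z.cycleType = Multiset.replicate w p) {κ : Fin m → ℕ} (hκ : StrictMono κ)
    (hκw : ∑ j, κ j / p = npairs p κ)
    (hκs : ∑ i, κ i = Fintype.card {x : α // z x = x} + ∑ i : Fin m, (i : ℕ))
    (hf : ∃ f : ℤ, f ≠ 0 ∧ ∀ s : Multiset ℕ, FM (Multiset.replicate w p + s) β = f * FM s κ) :
    ∃ b : Set (IrrCharacter (Subgroup.centralizer ({z} : Set (Equiv.Perm α)))),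
      IsInducedBlock M (Subgroup.centralizer ({z} : Set (Equiv.Perm α))) b
        (blockOf M (ch α β)) ∧ ∃ ψ ∈ b, ∑ y : (fixS z).subgroupOf
          (Subgroup.centralizer ({z} : Set (Equiv.Perm α))),
        (ψ : Subgroup.centralizer ({z} : Set (Equiv.Perm α)) → ℂ) y * conj (zeta z κ y) ≠ 0 := by
  classical
  have hMp : M.IsPrime := hM.2.1.isPrime
  have hzp := pow_eq_one_of_cycleType hz
  have hx : ∃ k : ℕ, orderOf z = p ^ k := by
    have h3 := orderOf_dvd_of_pow_eq_one hzp
    rcases (Nat.dvd_prime hp.out).mp h3 with h | h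
    · exact ⟨0, by simpa using h⟩
    · exact ⟨1, by simpa using h⟩
  obtain ⟨f, hf0, hf⟩ := hf
  refine exists_inducing_over hM hx (B := blockOf M (ch α β)) ⟨⟨ch α β, isIrr_ch hβ hs⟩, rfl⟩
    (χ := ⟨ch α β, isIrr_ch hβ hs⟩)
    (Blocks.Basic.mem_blockOf_self (⟨ch α β, isIrr_ch hβ hs⟩ : IrrCharacter (Equiv.Perm α)))
    ((fixS z).subgroupOf (Subgroup.centralizer ({z} : Set (Equiv.Perm α)))) ?_ ?_
  · intro y hy
    have h1 : p ∣ orderOf (toFix z y) := by
      rw [orderOf_injective (toFix z) (toFix_injective z), ← Subgroup.orderOf_coe]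
      exact hy
    have h4 : ¬ Ep p (ty (toFix z y)) = 0 := by
      rw [← pRegular_iff hp.out, not_not]; exact h1
    rw [Ep_eq_zero_iff (ty_pos _)] at h4
    push Not at h4
    obtain ⟨r, hr, hpr⟩ := h4
    show ((FM (ty (toFix z y)) κ : ℤ) : ℂ) = 0
    rw [FM_eq_zero_of_weight_zero hp.out.pos hκw hr (ty_pos _ r hr) hpr]
    simp
  · have h1 : ∀ y : (fixS z).subgroupOf (Subgroup.centralizer ({z} : Set (Equiv.Perm α))),
        ch α β (z * ((y : Subgroup.centralizer ({z} : Set (Equiv.Perm α))) : Equiv.Perm α)) *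
          conj (zeta z κ y) = f * (zeta z κ y * conj (zeta z κ y)) := by
      intro y
      rw [ch_apply, ty_mul, hz, hf]
      push_cast
      rw [mul_assoc]
      rfl
    show ∑ y : (fixS z).subgroupOf (Subgroup.centralizer ({z} : Set (Equiv.Perm α))),
        ch α β (z * ((y : Subgroup.centralizer ({z} : Set (Equiv.Perm α))) : Equiv.Perm α)) *
          conj (zeta z κ y) ≠ 0
    rw [Finset.sum_congr rfl (fun y _ => h1 y), ← Finset.mul_sum]
    have h2 := classInner_irr_self (isIrr_zeta z hκ hκs)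
    rw [classInner_def] at h2
    intro h3
    rcases mul_eq_zero.mp h3 with h4 | h4
    · exact hf0 (by exact_mod_cast h4)
    · rw [h4, mul_zero] at h2
      exact zero_ne_one h2

/-- **Nakayama's conjecture**, the hard half: characters with the same core are in the same block. -/
theorem sameBlock_of_sameCol (hM : IsPModular p M) {β γ : Fin m → ℕ} (hβ : StrictMono β)
    (hγ : StrictMono γ) (hsβ : ∑ i, β i = Fintype.card α + ∑ i : Fin m, (i : ℕ))
    (hsγ : ∑ i, γ i = Fintype.card α + ∑ i : Fin m, (i : ℕ)) (hc : SameCol p β γ) :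
    SameBlock M (ch α β) (ch α γ) := by
  classical
  have hMp : M.IsPrime := hM.2.1.isPrime
  obtain ⟨w, hw⟩ : ∃ w, ∑ j, β j / p = w + npairs p β :=
    ⟨_, (Nat.sub_add_cancel (npairs_le hp.out.pos hβ.injective)).symm⟩
  have hwγ := weight_of_sameCol hp.out.pos hc (hsβ.trans hsγ.symm) hw
  obtain ⟨κ, hκ, hκc, hκw, hpw, hκs, hF⟩ := exists_core hp.out.pos hβ.injective hw hsβ
  obtain ⟨z, hz⟩ := exists_cycleType (α := α) hpw
  have hcard : Fintype.card {x : α // z x = x} = Fintype.card α - p * w := by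
    rw [card_fix, hz]; simp [mul_comm]
  rw [← hcard] at hκs
  have hzp := pow_eq_one_of_cycleType hz
  let _ : Fintype ((fixS z).subgroupOf (Subgroup.centralizer ({z} : Set (Equiv.Perm α)))) :=
    Fintype.ofFinite _
  let _ : Fintype (Subgroup.centralizer ({z} : Set (Equiv.Perm α))) := Fintype.ofFinite _
  obtain ⟨b, hb, ψ, hψb, hψ⟩ := exists_block_centralizer hM hβ hsβ hz hκ hκw hκs
    (hF β hβ.injective (SameCol.refl p β) hw)
  obtain ⟨b', hb', ψ', hψb', hψ'⟩ := exists_block_centralizer hM hγ hsγ hz hκ hκw hκs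
    (hF γ hγ.injective hc hwγ)
  have hirr := isIrr_zeta z hκ hκs
  have hP : IsPGroup p ((cyc z).subgroupOf (Subgroup.centralizer ({z} : Set (Equiv.Perm α)))) := by
    intro g
    refine ⟨1, ?_⟩
    rw [pow_one]
    apply Subtype.ext
    apply Subtype.ext
    exact cyc_pow hzp g.2
  have hinner : ∀ φ : IrrCharacter (Subgroup.centralizer ({z} : Set (Equiv.Perm α))),
      ∑ y : (fixS z).subgroupOf (Subgroup.centralizer ({z} : Set (Equiv.Perm α))),
        (φ : Subgroup.centralizer ({z} : Set (Equiv.Perm α)) → ℂ) y * conj (zeta z κ y) ≠ 0 →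
      classInner (fun n : (fixS z).subgroupOf (Subgroup.centralizer ({z} : Set (Equiv.Perm α))) =>
        (φ : Subgroup.centralizer ({z} : Set (Equiv.Perm α)) → ℂ) n) (zeta z κ) ≠ 0 := by
    intro φ hφ
    rw [classInner_def]
    exact mul_ne_zero (inv_ne_zero card_ne_zero_complex) hφ
  have hsame : SameBlock M (ψ : Subgroup.centralizer ({z} : Set (Equiv.Perm α)) → ℂ)
      (ψ' : Subgroup.centralizer ({z} : Set (Equiv.Perm α)) → ℂ) := by
    refine sameBlock_of_over hM
      ((cyc z).subgroupOf (Subgroup.centralizer ({z} : Set (Equiv.Perm α)))) hP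
      ((fixS z).subgroupOf (Subgroup.centralizer ({z} : Set (Equiv.Perm α)))) ?_
      ⟨zeta z κ, hirr⟩ (hinner ψ hψ) (hinner ψ' hψ')
    intro g hg hgc
    rw [Subgroup.mem_subgroupOf]
    refine mem_fixS_of_pRegular hp.out hzp (by rwa [Subgroup.orderOf_coe]) ?_
    intro e he
    rw [Subgroup.mem_centralizer_iff] at hgc
    exact Subtype.ext_iff.mp (hgc ⟨e, cyc_le_centralizer z he⟩ he)
  have hbb : b = b' := Blocks.Basic.isPBlock_eq_of_sameBlock hb.1 hb'.1 hψb hψb' hsame
  subst hbb
  have hBB := inducedBlock_unique hM hb hb'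
  rw [Blocks.Basic.blockOf_eq_iff (ψ := ⟨ch α γ, isIrr_ch hγ hsγ⟩)] at hBB
  exact hBB

end Main

end Cfsg.Agent.H614
end
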