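import Cfsg.Agent.H614.Chars
set_option linter.all false

-- part: H614/Colour
section
/-!
# Colours of tuples (numbers of beads on the runners of the abacus)

* `SameCol q β γ` : the tuples have equally many entries in each residue class mod `q`
  (for beta-numbers of partitions: the partitions have the same `q`-core);
* `sum_pRegular_eq_zero` : Frobenius' characters of different colours mod `p` are orthogonal over
  the `p`-regular elements.
-/

set_option autoImplicit false
set_option linter.unusedSectionVars false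

namespace Cfsg.Agent.H614

open Finset Cfsg Cfsg.Agent.Characters.Core
open scoped ComplexConjugate

universe u

variable {m : ℕ}

/-- The number of entries congruent to `i` modulo `q`. -/
def res (q : ℕ) (β : Fin m → ℕ) (i : ℕ) : ℕ := #{j | β j % q = i}

/-- The tuples have the same numbers of entries in the residue classes. -/
def SameCol (q : ℕ) (β γ : Fin m → ℕ) : Prop := ∀ i, res q β i = res q γ i

theorem SameCol.refl (q : ℕ) (β : Fin m → ℕ) : SameCol q β β := fun _ => rfl

theorem SameCol.symm {q : ℕ} {β γ : Fin m → ℕ} (h : SameCol q β γ) : SameCol q γ β :=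
  fun i => (h i).symm

theorem SameCol.trans {q : ℕ} {β γ δ : Fin m → ℕ} (h : SameCol q β γ) (h' : SameCol q γ δ) :
    SameCol q β δ := fun i => (h i).trans (h' i)

theorem sameCol_comp (q : ℕ) (β : Fin m → ℕ) (σ : Equiv.Perm (Fin m)) : SameCol q (β ∘ σ) β := by
  intro i
  unfold res
  refine Finset.card_bij' (i := fun x _ => σ x) (j := fun x _ => σ.symm x) ?_ ?_ ?_ ?_
  all_goals simp

theorem sameCol_of_mod {q : ℕ} {β γ : Fin m → ℕ} (h : ∀ j, β j % q = γ j % q) : SameCol q β γ := by
  intro i
  unfold res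
  simp only [h]

theorem dn_mod {q r : ℕ} (hq : q ∣ r) (β : Fin m → ℕ) (j : Fin m) (h : r ≤ β j) (k : Fin m) :
    dn β j r k % q = β k % q := by
  by_cases hk : k = j
  · subst hk
    rw [dn_self]
    obtain ⟨c, rfl⟩ := hq
    have : β k = (β k - q * c) + q * c := by omega
    conv_rhs => rw [this]
    simp
  · rw [dn_ne _ _ hk]

theorem up_mod {q r : ℕ} (hq : q ∣ r) (β : Fin m → ℕ) (j : Fin m) (k : Fin m) :
    up β j r k % q = β k % q := by
  by_cases hk : k = j
  · subst hk
    rw [up_self]
    obtain ⟨c, rfl⟩ := hq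
    simp
  · rw [up_ne _ _ hk]

theorem sameCol_dn {q r : ℕ} (hq : q ∣ r) (β : Fin m → ℕ) (j : Fin m) (h : r ≤ β j) :
    SameCol q (dn β j r) β := sameCol_of_mod (dn_mod hq β j h)

theorem sameCol_up {q r : ℕ} (hq : q ∣ r) (β : Fin m → ℕ) (j : Fin m) :
    SameCol q (up β j r) β := sameCol_of_mod (up_mod hq β j)

theorem pair_eq_zero_of_not_sameCol {q : ℕ} {β γ : Fin m → ℕ} (h : ¬ SameCol q β γ) :
    pair β γ = 0 := by
  unfold pair
  refine Finset.sum_eq_zero fun σ _ => if_neg ?_
  rintro rfl
  exact h (sameCol_comp q γ σ)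

/-- The sum of the parts divisible by `p`. -/
def Ep (p : ℕ) (s : Multiset ℕ) : ℕ := (s.filter (fun i => p ∣ i)).sum

theorem Z_Ep {n p : ℕ} {β γ : Fin m → ℕ} (hβ : ∑ i, β i = n + ∑ i : Fin m, (i : ℕ))
    (h : ¬ SameCol p β γ) :
    Z n (fun s => (Ep p s : ℚ) * ((FM s β : ℚ) * FM s γ)) = 0 := by
  unfold Ep
  rw [Z_filter]
  refine Finset.sum_eq_zero fun r hr => ?_
  rw [Finset.mem_filter, Finset.mem_Icc] at hr
  have h3 : ∀ s : Multiset ℕ, (FM (r ::ₘ s) β : ℚ) * FM (r ::ₘ s) γ =
      ∑ j, ∑ k, (if r ≤ β j then (if r ≤ γ k then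
        (FM s (dn β j r) : ℚ) * FM s (dn γ k r) else 0) else 0) := by
    intro s
    rw [FM_cons, FM_cons]
    push_cast
    rw [Finset.sum_mul_sum]
    refine Finset.sum_congr rfl fun j _ => Finset.sum_congr rfl fun k _ => ?_
    split_ifs <;> simp
  simp only [h3]
  rw [Z_finsum]
  refine Finset.sum_eq_zero fun j _ => ?_
  rw [Z_finsum]
  refine Finset.sum_eq_zero fun k _ => ?_
  by_cases hj : r ≤ β j
  · by_cases hk : r ≤ γ k
    · simp only [hj, hk, if_true]
      rw [ortho (n - r)]
      · rw [pair_eq_zero_of_not_sameCol (q := p)]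
        · simp
        · intro h'
          exact h (((sameCol_dn hr.2 β j hj).symm.trans h').trans (sameCol_dn hr.2 γ k hk))
      · have := sum_dn β j hj
        omega
    · simp only [hk, if_false]; simp [Z]
  · simp only [hj, if_false]; simp [Z]

theorem Z_Ep_pow {n p : ℕ} (hn : n ≤ m) (k : ℕ) {β γ : Fin m → ℕ}
    (hβ : ∑ i, β i = n + ∑ i : Fin m, (i : ℕ)) (h : ¬ SameCol p β γ) :
    Z n (fun s => (Ep p s : ℚ) ^ k * ((FM s β : ℚ) * FM s γ)) = 0 := by
  induction k generalizing β with
  | zero =>
    simp only [pow_zero, one_mul]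
    rw [ortho n _ _ hβ, pair_eq_zero_of_not_sameCol h]; simp
  | succ k ih =>
    have h1 : ∀ s : Multiset ℕ, s.sum = n → (∀ i ∈ s, 0 < i) →
        (Ep p s : ℚ) ^ (k + 1) * ((FM s β : ℚ) * FM s γ) =
        ∑ ν : n.Partition, Z n (fun t => (Ep p t : ℚ) * ((FM t β : ℚ) * FM t (betaOf m ν.parts))) *
          ((Ep p s : ℚ) ^ k * ((FM s (betaOf m ν.parts) : ℚ) * FM s γ)) := by
      intro s hs hpos
      have h2 := expand hn (fun t => (Ep p t : ℚ) * FM t β) ⟨s, fun {i} hi => hpos i hi, hs⟩
      simp only at h2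
      have h3 : (Ep p s : ℚ) ^ (k + 1) * ((FM s β : ℚ) * FM s γ) =
          ((Ep p s : ℚ) * FM s β) * ((Ep p s : ℚ) ^ k * FM s γ) := by ring
      rw [h3, h2, Finset.sum_mul]
      refine Finset.sum_congr rfl fun ν _ => ?_
      have h4 : ∀ t : Multiset ℕ, (Ep p t : ℚ) * (FM t β : ℚ) * (FM t (betaOf m ν.parts) : ℚ) =
          (Ep p t : ℚ) * ((FM t β : ℚ) * FM t (betaOf m ν.parts)) := fun t => by ring
      simp only [h4]
      ring
    rw [Z_congr h1, Z_finsum]
    refine Finset.sum_eq_zero fun ν _ => ?_
    rw [Z_smul]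
    by_cases hc : SameCol p β (betaOf m ν.parts)
    · have h5 := card_le_of_partition ν hn
      rw [ih (by rw [sum_betaOf h5, ν.parts_sum]) (fun h' => h (hc.trans h')), mul_zero]
    · rw [Z_Ep hβ hc, zero_mul]

theorem Ep_le {n p : ℕ} {s : Multiset ℕ} (hs : s.sum = n) : Ep p s ≤ n := by
  unfold Ep
  rw [← hs]
  conv_rhs => rw [← Multiset.filter_add_not (fun i => p ∣ i) s, Multiset.sum_add]
  omega

/-- Frobenius' functions of different colours are orthogonal over the `p`-regular classes. -/
theorem Z_pRegular {n p : ℕ} (hn : n ≤ m) {β γ : Fin m → ℕ}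
    (hβ : ∑ i, β i = n + ∑ i : Fin m, (i : ℕ)) (h : ¬ SameCol p β γ) :
    Z n (fun s => (if Ep p s = 0 then 1 else 0) * ((FM s β : ℚ) * FM s γ)) = 0 := by
  set Q : Polynomial ℚ := ∏ k ∈ Finset.Icc 1 n, (1 - Polynomial.C ((k : ℚ)⁻¹) * Polynomial.X) with hQ
  have hev : ∀ e : ℕ, e ≤ n → Q.eval (e : ℚ) = if e = 0 then 1 else 0 := by
    intro e he
    rw [hQ, Polynomial.eval_prod]
    split_ifs with h0
    · subst h0; simp
    · apply Finset.prod_eq_zero (i := e)
      · rw [Finset.mem_Icc]; omega
      · have : (e : ℚ) ≠ 0 := by exact_mod_cast h0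
        simp [this]
  have h1 : ∀ s : Multiset ℕ, s.sum = n → (∀ i ∈ s, 0 < i) →
      (if Ep p s = 0 then (1 : ℚ) else 0) * ((FM s β : ℚ) * FM s γ) =
      ∑ k ∈ Finset.range (Q.natDegree + 1), Q.coeff k *
        ((Ep p s : ℚ) ^ k * ((FM s β : ℚ) * FM s γ)) := by
    intro s hs _
    rw [← hev _ (Ep_le hs), Polynomial.eval_eq_sum_range, Finset.sum_mul]
    exact Finset.sum_congr rfl fun k _ => by ring
  rw [Z_congr h1, Z_finsum]
  refine Finset.sum_eq_zero fun k _ => ?_
  rw [Z_smul, Z_Ep_pow hn k hβ h, mul_zero]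

/-! ### The group side -/

variable {α : Type u} [Fintype α] [DecidableEq α]

theorem prime_dvd_lcm {p : ℕ} (hp : p.Prime) (s : Multiset ℕ) : p ∣ s.lcm ↔ ∃ i ∈ s, p ∣ i := by
  induction s using Multiset.induction_on with
  | empty => simp [hp.one_lt.ne']
  | cons a s ih =>
    rw [Multiset.lcm_cons]
    constructor
    · intro h
      have h1 : p ∣ a * s.lcm := h.trans (lcm_dvd (dvd_mul_right _ _) (dvd_mul_left _ _))
      rcases hp.dvd_mul.mp h1 with h2 | h2
      · exact ⟨a, Multiset.mem_cons_self _ _, h2⟩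
      · obtain ⟨i, hi, hi'⟩ := ih.mp h2
        exact ⟨i, Multiset.mem_cons_of_mem hi, hi'⟩
    · rintro ⟨i, hi, hi'⟩
      rcases Multiset.mem_cons.mp hi with rfl | h2
      · exact hi'.trans (dvd_lcm_left _ _)
      · exact (ih.mpr ⟨i, h2, hi'⟩).trans (dvd_lcm_right _ _)

theorem Ep_eq_zero_iff {p : ℕ} {s : Multiset ℕ} (hpos : ∀ i ∈ s, 0 < i) :
    Ep p s = 0 ↔ ∀ i ∈ s, ¬ p ∣ i := by
  unfold Ep
  rw [Multiset.sum_eq_zero_iff]
  constructor
  · intro h i hi hd
    have h1 := h i (Multiset.mem_filter.mpr ⟨hi, hd⟩)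
    have := hpos i hi
    omega
  · intro h i hi
    rw [Multiset.mem_filter] at hi
    exact absurd hi.2 (h i hi.1)

theorem pRegular_iff {p : ℕ} (hp : p.Prime) (g : Equiv.Perm α) :
    ¬ p ∣ orderOf g ↔ Ep p (ty g) = 0 := by
  rw [Ep_eq_zero_iff (ty_pos g), ← Equiv.Perm.lcm_cycleType, prime_dvd_lcm hp, ty_eq]
  push Not
  constructor
  · intro h i hi
    rcases Multiset.mem_add.mp hi with h1 | h1
    · exact h i h1
    · rw [Multiset.eq_of_mem_replicate h1]
      exact hp.one_lt.ne' ∘ Nat.dvd_one.mp
  · intro h i hi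
    exact h i (Multiset.mem_add.mpr (Or.inl hi))

/-- **Frobenius' characters of different colours are orthogonal over the `p`-regular elements.** -/
theorem sum_pRegular_eq_zero {p : ℕ} (hp : p.Prime) (hm : Fintype.card α ≤ m) {β γ : Fin m → ℕ}
    (hβ : ∑ i, β i = Fintype.card α + ∑ i : Fin m, (i : ℕ)) (h : ¬ SameCol p β γ) :
    ∑ g : Equiv.Perm α, (if ¬ p ∣ orderOf g then ch α β g * conj (ch α γ g) else 0) = 0 := by
  have h1 := sum_perm (α := α)
    (fun s => (if Ep p s = 0 then 1 else 0) * ((FM s β : ℚ) * FM s γ))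
  rw [Z_pRegular hm hβ h, mul_zero] at h1
  have h2 : ∑ g : Equiv.Perm α, (if ¬ p ∣ orderOf g then ch α β g * conj (ch α γ g) else 0) =
      ((∑ g : Equiv.Perm α, (if Ep p (ty g) = 0 then 1 else 0) * ((FM (ty g) β : ℚ) * FM (ty g) γ)
        : ℚ) : ℂ) := by
    rw [Rat.cast_sum]
    refine Finset.sum_congr rfl fun g _ => ?_
    rw [conj_ch, ch_apply, ch_apply]
    by_cases hg : ¬ p ∣ orderOf g
    · rw [if_pos hg, if_pos ((pRegular_iff hp g).mp hg)]
      push_cast; ring
    · rw [if_neg hg, if_neg (fun h' => hg ((pRegular_iff hp g).mpr h'))]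
      simp
  rw [h2, h1]; simp

end Cfsg.Agent.H614
end

-- part: H614/Weight
section
/-!
# Weights and cores of tuples

For a tuple `β` the weight is `∑_j ⌊β_j / p⌋ - npairs p β` (`p`-weight of the partition).

* `npairs_le` : it is nonnegative for injective tuples;
* `core β` : the core tuple;
* `exists_perm_of_weight_zero` : tuples of weight zero and the same colour differ by a permutation;
* `FM_hooks` : `F_β (p^w ∪ s) = f F_{core β} (s)` with `f > 0` if `β` has weight `w`;
* `FM_eq_zero_of_weight_zero` : characters of weight zero vanish at the `p`-singular elements.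
-/

set_option autoImplicit false
set_option linter.unusedSectionVars false

namespace Cfsg.Agent.H614

open Finset

variable {m : ℕ}

/-- The number of entries on the runner of `β j` below `β j`. -/
def low (p : ℕ) (β : Fin m → ℕ) (j : Fin m) : ℕ := #{k | β k % p = β j % p ∧ β k < β j}

theorem two_mul_npairs (p : ℕ) (β : Fin m → ℕ) :
    2 * npairs p β + m = #{x : Fin m × Fin m | β x.1 % p = β x.2 % p} := by
  have h1 : #{x : Fin m × Fin m | β x.1 % p = β x.2 % p} =
      #{x : Fin m × Fin m | x.1 < x.2 ∧ β x.1 % p = β x.2 % p} +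
      #{x : Fin m × Fin m | x.2 < x.1 ∧ β x.1 % p = β x.2 % p} +
      #{x : Fin m × Fin m | x.1 = x.2} := by
    rw [← Finset.card_union_of_disjoint, ← Finset.card_union_of_disjoint]
    · congr 1
      ext x
      simp only [Finset.mem_filter, Finset.mem_univ, true_and, Finset.mem_union]
      constructor
      · intro h
        rcases lt_trichotomy x.1 x.2 with h' | h' | h' <;> tauto
      · rintro ((h | h) | h)
        · exact h.2
        · exact h.2
        · rw [h]
    · rw [Finset.disjoint_left]
      intro x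
      simp only [Finset.mem_filter, Finset.mem_univ, true_and, Finset.mem_union]
      rintro (h | h) h'
      · exact h.1.ne h'
      · exact h.1.ne h'.symm
    · rw [Finset.disjoint_left]
      intro x
      simp only [Finset.mem_filter, Finset.mem_univ, true_and]
      rintro h h'
      exact absurd h.1 h'.1.not_gt
  have h2 : #{x : Fin m × Fin m | x.2 < x.1 ∧ β x.1 % p = β x.2 % p} = npairs p β := by
    unfold npairs
    refine Finset.card_bij' (i := fun x _ => (x.2, x.1)) (j := fun x _ => (x.2, x.1)) ?_ ?_ ?_ ?_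
    · intro x hx
      simp only [Finset.mem_filter, Finset.mem_univ, true_and] at hx ⊢
      exact ⟨hx.1, hx.2.symm⟩
    · intro x hx
      simp only [Finset.mem_filter, Finset.mem_univ, true_and] at hx ⊢
      exact ⟨hx.1, hx.2.symm⟩
    · intro x _; rfl
    · intro x _; rfl
  have h3 : #{x : Fin m × Fin m | x.1 = x.2} = m := by
    have : ({x : Fin m × Fin m | x.1 = x.2} : Finset (Fin m × Fin m)) =
        (univ : Finset (Fin m)).map ⟨fun i => (i, i), fun a b h => (Prod.ext_iff.mp h).1⟩ := by
      ext x
      simp only [Finset.mem_filter, Finset.mem_univ, true_and, Finset.mem_map]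
      constructor
      · intro h; exact ⟨x.1, Prod.ext rfl h⟩
      · rintro ⟨i, rfl⟩; rfl
    rw [this, Finset.card_map, Finset.card_univ, Fintype.card_fin]
  rw [h1, h2, h3]
  unfold npairs
  ring

theorem sum_low (p : ℕ) {β : Fin m → ℕ} (hβ : Function.Injective β) :
    ∑ j, low p β j = npairs p β := by
  have h1 : ∑ j, low p β j = #{x : Fin m × Fin m | β x.2 % p = β x.1 % p ∧ β x.2 < β x.1} := by
    unfold low
    simp only [Finset.card_filter]
    rw [Fintype.sum_prod_type]
  have h2 : #{x : Fin m × Fin m | β x.2 % p = β x.1 % p ∧ β x.2 < β x.1} =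
      #{x : Fin m × Fin m | β x.2 % p = β x.1 % p ∧ β x.1 < β x.2} := by
    refine Finset.card_bij' (i := fun x _ => (x.2, x.1)) (j := fun x _ => (x.2, x.1)) ?_ ?_ ?_ ?_
    · intro x hx
      simp only [Finset.mem_filter, Finset.mem_univ, true_and] at hx ⊢
      exact ⟨hx.1.symm, hx.2⟩
    · intro x hx
      simp only [Finset.mem_filter, Finset.mem_univ, true_and] at hx ⊢
      exact ⟨hx.1.symm, hx.2⟩
    · intro x _; rfl
    · intro x _; rfl
  have h3 : #{x : Fin m × Fin m | β x.1 % p = β x.2 % p} =
      #{x : Fin m × Fin m | β x.2 % p = β x.1 % p ∧ β x.2 < β x.1} +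
      #{x : Fin m × Fin m | β x.2 % p = β x.1 % p ∧ β x.1 < β x.2} +
      #{x : Fin m × Fin m | x.1 = x.2} := by
    rw [← Finset.card_union_of_disjoint, ← Finset.card_union_of_disjoint]
    · congr 1
      ext x
      simp only [Finset.mem_filter, Finset.mem_univ, true_and, Finset.mem_union]
      constructor
      · intro h
        rcases lt_trichotomy (β x.1) (β x.2) with h' | h' | h'
        · exact Or.inl (Or.inr ⟨h.symm, h'⟩)
        · exact Or.inr (hβ h')
        · exact Or.inl (Or.inl ⟨h.symm, h'⟩)
      · rintro ((h | h) | h)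
        · exact h.1.symm
        · exact h.1.symm
        · rw [h]
    · rw [Finset.disjoint_left]
      intro x
      simp only [Finset.mem_filter, Finset.mem_univ, true_and, Finset.mem_union]
      rintro (h | h) h'
      · rw [h'] at h; exact absurd h.2 (lt_irrefl _)
      · rw [h'] at h; exact absurd h.2 (lt_irrefl _)
    · rw [Finset.disjoint_left]
      intro x
      simp only [Finset.mem_filter, Finset.mem_univ, true_and]
      rintro h h'
      exact absurd h.2 h'.2.not_gt
  have h4 := two_mul_npairs p β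
  have h5 : #{x : Fin m × Fin m | x.1 = x.2} = m := by
    have : ({x : Fin m × Fin m | x.1 = x.2} : Finset (Fin m × Fin m)) =
        (univ : Finset (Fin m)).map ⟨fun i => (i, i), fun a b h => (Prod.ext_iff.mp h).1⟩ := by
      ext x
      simp only [Finset.mem_filter, Finset.mem_univ, true_and, Finset.mem_map]
      constructor
      · intro h; exact ⟨x.1, Prod.ext rfl h⟩
      · rintro ⟨i, rfl⟩; rfl
    rw [this, Finset.card_map, Finset.card_univ, Fintype.card_fin]
  rw [h1]
  omega

theorem npairs_of_mod {p : ℕ} {β γ : Fin m → ℕ} (h : ∀ j, β j % p = γ j % p) :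
    npairs p β = npairs p γ := by
  unfold npairs
  simp only [h]

theorem npairs_of_sameCol {p : ℕ} {β γ : Fin m → ℕ} (h : SameCol p β γ) :
    npairs p β = npairs p γ := by
  have key : ∀ β : Fin m → ℕ, #{x : Fin m × Fin m | β x.1 % p = β x.2 % p} =
      ∑ i ∈ (univ.image (fun j => β j % p)), res p β i * res p β i := by
    intro β
    rw [Finset.card_eq_sum_card_fiberwise (f := fun x : Fin m × Fin m => β x.1 % p)
      (t := univ.image (fun j => β j % p))]
    · refine Finset.sum_congr rfl fun i _ => ?_
      unfold res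
      rw [← Finset.card_product]
      congr 1
      ext x
      simp only [Finset.mem_filter, Finset.mem_univ, true_and, Finset.mem_product]
      constructor
      · rintro ⟨h1, h2⟩; exact ⟨h2, by rw [← h1, h2]⟩
      · rintro ⟨h1, h2⟩; exact ⟨by rw [h1, h2], h1⟩
    · intro x _
      exact Finset.mem_coe.mpr (Finset.mem_image_of_mem _ (mem_univ _))
  have himg : univ.image (fun j => β j % p) = univ.image (fun j => γ j % p) := by
    ext i
    have e : ∀ β : Fin m → ℕ, i ∈ univ.image (fun j => β j % p) ↔ res p β i ≠ 0 := by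
      intro β
      unfold res
      rw [Finset.card_ne_zero, Finset.filter_nonempty_iff]
      simp
    rw [e, e, h i]
  have h1 := two_mul_npairs p β
  have h2 := two_mul_npairs p γ
  rw [key] at h1 h2
  rw [himg] at h1
  have h3 : ∑ i ∈ (univ.image (fun j => γ j % p)), res p β i * res p β i =
      ∑ i ∈ (univ.image (fun j => γ j % p)), res p γ i * res p γ i :=
    Finset.sum_congr rfl fun i _ => by rw [h i]
  omega

theorem sum_mod_of_sameCol {p : ℕ} {β γ : Fin m → ℕ} (h : SameCol p β γ) :
    ∑ j, β j % p = ∑ j, γ j % p := by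
  have key : ∀ β : Fin m → ℕ, ∑ j, β j % p =
      ∑ i ∈ (univ.image (fun j => β j % p)), res p β i * i := by
    intro β
    rw [← Finset.sum_fiberwise_of_maps_to (s := univ) (t := univ.image (fun j => β j % p))
      (g := fun j => β j % p) (fun j _ => Finset.mem_image_of_mem _ (mem_univ _))]
    refine Finset.sum_congr rfl fun i _ => ?_
    unfold res
    rw [Finset.sum_congr rfl (g := fun _ => i), Finset.sum_const, smul_eq_mul]
    intro j hj
    exact (Finset.mem_filter.mp hj).2
  have himg : univ.image (fun j => β j % p) = univ.image (fun j => γ j % p) := by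
    ext i
    have e : ∀ β : Fin m → ℕ, i ∈ univ.image (fun j => β j % p) ↔ res p β i ≠ 0 := by
      intro β
      unfold res
      rw [Finset.card_ne_zero, Finset.filter_nonempty_iff]
      simp
    rw [e, e, h i]
  rw [key, key, himg]
  exact Finset.sum_congr rfl fun i _ => by rw [h i]

/-- The entries below `β j` on its runner inject into `range (β j / p)`. -/
theorem low_le {p : ℕ} (_hp : 0 < p) {β : Fin m → ℕ} (hβ : Function.Injective β) (j : Fin m) :
    low p β j ≤ β j / p := by
  unfold low
  conv_rhs => rw [← Finset.card_range (β j / p)]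
  apply Finset.card_le_card_of_injOn (fun k => β k / p)
  · intro k hk
    simp only [Finset.coe_filter, Finset.mem_univ, true_and, Set.mem_ofPred_eq] at hk
    simp only [Finset.coe_range, Set.mem_Iio]
    have h1 := Nat.div_add_mod (β k) p
    have h2 := Nat.div_add_mod (β j) p
    rw [hk.1] at h1
    by_contra hcon
    push Not at hcon
    have h3 : p * (β j / p) ≤ p * (β k / p) := Nat.mul_le_mul_left _ hcon
    omega
  · intro k hk l hl hkl
    simp only [Finset.coe_filter, Finset.mem_univ, true_and, Set.mem_ofPred_eq] at hk hl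
    simp only at hkl
    apply hβ
    have h1 := Nat.div_add_mod (β k) p
    have h2 := Nat.div_add_mod (β l) p
    rw [hk.1] at h1
    rw [hl.1, ← hkl] at h2
    omega

theorem npairs_le {p : ℕ} (hp : 0 < p) {β : Fin m → ℕ} (hβ : Function.Injective β) :
    npairs p β ≤ ∑ j, β j / p := by
  rw [← sum_low p hβ]
  exact Finset.sum_le_sum fun j _ => low_le hp hβ j

theorem low_eq_of_weight_zero {p : ℕ} (hp : 0 < p) {β : Fin m → ℕ} (hβ : Function.Injective β)
    (h : ∑ j, β j / p = npairs p β) (j : Fin m) : low p β j = β j / p := by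
  rw [← sum_low p hβ] at h
  exact (Finset.sum_eq_sum_iff_of_le (fun i _ => low_le hp hβ i)).mp h.symm j (mem_univ _)

/-- In a tuple of weight zero everything below an entry on its runner is an entry. -/
theorem down_of_weight_zero {p : ℕ} (hp : 0 < p) {β : Fin m → ℕ} (hβ : Function.Injective β)
    (h : ∑ j, β j / p = npairs p β) (j : Fin m) {t : ℕ} (ht : t < β j / p) :
    ∃ k, β k = p * t + β j % p := by
  have h1 := low_eq_of_weight_zero hp hβ h j
  have h2 : (({k | β k % p = β j % p ∧ β k < β j} : Finset (Fin m)).image (fun k => β k / p)) =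
      Finset.range (β j / p) := by
    apply Finset.eq_of_subset_of_card_le
    · intro x hx
      rw [Finset.mem_image] at hx
      obtain ⟨k, hk, rfl⟩ := hx
      simp only [Finset.mem_filter, Finset.mem_univ, true_and] at hk
      rw [Finset.mem_range]
      have h1 := Nat.div_add_mod (β k) p
      have h2 := Nat.div_add_mod (β j) p
      rw [hk.1] at h1
      by_contra hcon
      push Not at hcon
      have h3 : p * (β j / p) ≤ p * (β k / p) := Nat.mul_le_mul_left _ hcon
      omega
    · rw [Finset.card_range, Finset.card_image_of_injOn]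
      · exact h1.ge
      · intro k hk l hl hkl
        simp only [Finset.coe_filter, Finset.mem_univ, true_and, Set.mem_ofPred_eq] at hk hl
        simp only at hkl
        apply hβ
        have h1 := Nat.div_add_mod (β k) p
        have h2 := Nat.div_add_mod (β l) p
        rw [hk.1] at h1
        rw [hl.1, ← hkl] at h2
        omega
  have h3 : t ∈ Finset.range (β j / p) := Finset.mem_range.mpr ht
  rw [← h2, Finset.mem_image] at h3
  obtain ⟨k, hk, hkt⟩ := h3
  simp only [Finset.mem_filter, Finset.mem_univ, true_and] at hk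
  refine ⟨k, ?_⟩
  have h4 := Nat.div_add_mod (β k) p
  rw [hkt, hk.1] at h4
  exact h4.symm

/-- A downward closed finite set of naturals is an initial segment. -/
theorem eq_range_of_down {A : Finset ℕ} (h : ∀ x ∈ A, ∀ y < x, y ∈ A) : A = Finset.range A.card := by
  induction A using Finset.strongInduction with
  | _ A ih =>
    rcases A.eq_empty_or_nonempty with rfl | hne
    · simp
    · have hmax := Finset.max'_mem A hne
      set M := A.max' hne
      have h1 : A = Finset.range (M + 1) := by
        ext x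
        rw [Finset.mem_range]
        constructor
        · intro hx
          have := Finset.le_max' A x hx
          omega
        · intro hx
          rcases Nat.lt_succ_iff_lt_or_eq.mp hx with h2 | h2
          · exact h M hmax x h2
          · rw [h2]; exact hmax
      rw [h1, Finset.card_range]

/-- The range of a tuple of weight zero is determined by the colour. -/
theorem mem_range_of_weight_zero {p : ℕ} (hp : 0 < p) {β : Fin m → ℕ} (hβ : Function.Injective β)
    (h : ∑ j, β j / p = npairs p β) (x : ℕ) :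
    x ∈ Set.range β ↔ x / p < res p β (x % p) := by
  classical
  set A : Finset ℕ := ({k | β k % p = x % p} : Finset (Fin m)).image (fun k => β k / p) with hA
  have hcard : A.card = res p β (x % p) := by
    rw [hA, Finset.card_image_of_injOn]
    · rfl
    · intro k hk l hl hkl
      simp only [Finset.coe_filter, Finset.mem_univ, true_and, Set.mem_ofPred_eq] at hk hl
      simp only at hkl
      apply hβ
      have h1 := Nat.div_add_mod (β k) p
      have h2 := Nat.div_add_mod (β l) p
      rw [hk] at h1
      rw [hl, ← hkl] at h2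
      omega
  have hdown : ∀ y ∈ A, ∀ t < y, t ∈ A := by
    intro y hy t ht
    rw [hA, Finset.mem_image] at hy
    obtain ⟨k, hk, rfl⟩ := hy
    simp only [Finset.mem_filter, Finset.mem_univ, true_and] at hk
    obtain ⟨l, hl⟩ := down_of_weight_zero hp hβ h k ht
    rw [hA, Finset.mem_image]
    refine ⟨l, ?_, ?_⟩
    · simp only [Finset.mem_filter, Finset.mem_univ, true_and]
      rw [hl, hk, Nat.mul_add_mod, Nat.mod_mod]
    · rw [hl, Nat.mul_add_div hp, Nat.div_eq_of_lt (Nat.mod_lt _ hp), add_zero]
  have h1 := eq_range_of_down hdown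
  rw [hcard] at h1
  have h2 : x / p < res p β (x % p) ↔ x / p ∈ A := by rw [h1, Finset.mem_range]
  rw [h2, hA, Finset.mem_image]
  constructor
  · rintro ⟨k, rfl⟩
    exact ⟨k, by simp, rfl⟩
  · rintro ⟨k, hk, hk'⟩
    simp only [Finset.mem_filter, Finset.mem_univ, true_and] at hk
    refine ⟨k, ?_⟩
    have h3 := Nat.div_add_mod (β k) p
    have h4 := Nat.div_add_mod x p
    rw [hk', hk] at h3
    omega

theorem exists_perm_of_range_eq {β γ : Fin m → ℕ} (hβ : Function.Injective β)
    (hγ : Function.Injective γ) (h : Set.range β = Set.range γ) :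
    ∃ σ : Equiv.Perm (Fin m), γ = β ∘ σ := by
  refine ⟨(Equiv.ofInjective γ hγ).trans ((Equiv.setCongr h.symm).trans
    (Equiv.ofInjective β hβ).symm), ?_⟩
  funext i
  simp only [Function.comp_apply, Equiv.trans_apply]
  have h1 := Equiv.apply_ofInjective_symm hβ
    (Equiv.setCongr h.symm (Equiv.ofInjective γ hγ i))
  rw [h1]
  rfl

/-- Tuples of weight zero of the same colour differ by a permutation. -/
theorem exists_perm_of_weight_zero {p : ℕ} (hp : 0 < p) {β γ : Fin m → ℕ}
    (hβ : Function.Injective β) (hγ : Function.Injective γ)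
    (h : ∑ j, β j / p = npairs p β) (h' : ∑ j, γ j / p = npairs p γ) (hc : SameCol p β γ) :
    ∃ σ : Equiv.Perm (Fin m), γ = β ∘ σ := by
  apply exists_perm_of_range_eq hβ hγ
  ext x
  rw [mem_range_of_weight_zero hp hβ h, mem_range_of_weight_zero hp hγ h', hc (x % p)]

theorem sum_div_dn {p : ℕ} (hp : 0 < p) (β : Fin m → ℕ) (j : Fin m) {c : ℕ} (h : p * c ≤ β j) :
    ∑ k, dn β j (p * c) k / p + c = ∑ k, β k / p := by
  rw [← Finset.add_sum_erase _ _ (mem_univ j), ← Finset.add_sum_erase _ (fun k => β k / p) (mem_univ j),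
    dn_self, Finset.sum_congr rfl (fun k hk => by rw [dn_ne β _ (Finset.ne_of_mem_erase hk)])]
  have h1 : β j / p = (β j - p * c) / p + c := by
    have : β j = (β j - p * c) + p * c := by omega
    conv_lhs => rw [this]
    rw [Nat.add_mul_div_left _ _ hp]
  omega

/-- Moving down more than the weight destroys injectivity. -/
theorem not_injective_dn {p : ℕ} (hp : 0 < p) {β : Fin m → ℕ} {w : ℕ}
    (h : ∑ j, β j / p = w + npairs p β) (j : Fin m) {c : ℕ} (hc : p * c ≤ β j) (hw : w < c) :
    ¬ Function.Injective (dn β j (p * c)) := by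
  intro hinj
  have h1 := npairs_le hp hinj
  rw [npairs_of_mod (dn_mod (dvd_mul_right p c) β j hc)] at h1
  have h2 := sum_div_dn hp β j hc
  omega

/-- Characters of weight zero vanish at the `p`-singular elements. -/
theorem FM_eq_zero_of_weight_zero {p : ℕ} (hp : 0 < p) {β : Fin m → ℕ}
    (h : ∑ j, β j / p = npairs p β) {s : Multiset ℕ} {r : ℕ} (hr : r ∈ s) (hr0 : 0 < r)
    (hpr : p ∣ r) : FM s β = 0 := by
  obtain ⟨t, rfl⟩ := Multiset.exists_cons_of_mem hr
  obtain ⟨c, rfl⟩ := hpr
  rw [FM_cons]
  refine Finset.sum_eq_zero fun j _ => ?_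
  split_ifs with hj
  · apply (FM_alt t).eq_zero_of_not_injective two_torsion_int
    apply not_injective_dn hp (w := 0) (by simpa using h) j hj
    exact Nat.pos_of_ne_zero (by rintro rfl; simp at hr0)
  · rfl

end Cfsg.Agent.H614
end
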