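import Cfsg.Agent.H614.Chars
set_option linter.all false

/-!
# The degree formula for the characters of the symmetric groups

`FM (replicate n 1) β * ∏ β_i! = n! * ∏_{i<j} (β_j - β_i)` if `∑ β = n + (0 + 1 + ⋯ + (m-1))`.
-/

set_option autoImplicit false
set_option linter.unusedSectionVars false

namespace Cfsg.Agent.H614

open Finset

variable {m : ℕ}

/-- The determinant of the falling factorials. -/
def DD (β : Fin m → ℕ) : ℤ :=
  ∑ σ : Equiv.Perm (Fin m), sg σ * ∏ i, (((β i).descFactorial (σ i : Fin m) : ℕ) : ℤ)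

theorem DD_eq_prod (β : Fin m → ℕ) :
    DD β = ∏ i : Fin m, ∏ j ∈ Finset.Ioi i, ((β j : ℤ) - β i) := by
  have h1 := Matrix.det_eval_matrixOfPolynomials_eq_det_vandermonde (R := ℤ)
    (fun i : Fin m => (β i : ℤ)) (fun i => descPochhammer ℤ (i : ℕ))
    (fun i => descPochhammer_natDegree ℤ (i : ℕ)) (fun i => monic_descPochhammer ℤ (i : ℕ))
  rw [Matrix.det_vandermonde] at h1
  rw [h1, ← Matrix.det_transpose, Matrix.det_apply']
  unfold DD
  refine Finset.sum_congr rfl fun σ _ => ?_
  congr 1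
  refine Finset.prod_congr rfl fun i _ => ?_
  rw [Matrix.transpose_apply, Matrix.of_apply, descPochhammer_eval_eq_descFactorial]

theorem mul_descFactorial (b k : ℕ) :
    (b : ℤ) * (((b - 1).descFactorial k : ℕ) : ℤ) = ((b : ℤ) - k) * ((b.descFactorial k : ℕ) : ℤ) := by
  rcases Nat.eq_zero_or_pos b with rfl | hb
  · rcases Nat.eq_zero_or_pos k with rfl | hk
    · simp
    · obtain ⟨k, rfl⟩ : ∃ l, k = l + 1 := ⟨k - 1, by omega⟩
      simp
  · obtain ⟨c, rfl⟩ : ∃ c, b = c + 1 := ⟨b - 1, by omega⟩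
    rw [Nat.add_sub_cancel]
    have h1 : (c + 1) * c.descFactorial k = (c + 1).descFactorial (k + 1) :=
      (Nat.succ_descFactorial_succ c k).symm
    have h2 : (c + 1).descFactorial (k + 1) = (c + 1 - k) * (c + 1).descFactorial k :=
      Nat.descFactorial_succ _ _
    have h3 : ((c + 1 : ℕ) : ℤ) * ((c.descFactorial k : ℕ) : ℤ) =
        (((c + 1 - k) * (c + 1).descFactorial k : ℕ) : ℤ) := by
      rw [← h2, ← h1]; push_cast; ring
    rw [h3]
    rcases Nat.lt_or_ge (c + 1) k with h | h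
    · rw [Nat.descFactorial_of_lt h]; simp
    · rw [Nat.cast_mul, Nat.cast_sub h]

theorem sum_mul_DD_dn (β : Fin m → ℕ) :
    ∑ j, (β j : ℤ) * DD (dn β j 1) = ((∑ j, (β j : ℤ)) - ∑ i : Fin m, ((i : ℕ) : ℤ)) * DD β := by
  unfold DD
  simp only [Finset.mul_sum]
  rw [Finset.sum_comm]
  refine Finset.sum_congr rfl fun σ _ => ?_
  have h1 : ∀ j, (β j : ℤ) * (sg σ * ∏ i, (((dn β j 1 i).descFactorial (σ i : Fin m) : ℕ) : ℤ)) =
      ((β j : ℤ) - (σ j : Fin m)) * (sg σ * ∏ i, (((β i).descFactorial (σ i : Fin m) : ℕ) : ℤ)) := by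
    intro j
    rw [← Finset.mul_prod_erase _ _ (Finset.mem_univ j),
      ← Finset.mul_prod_erase _ (fun i => (((β i).descFactorial (σ i : Fin m) : ℕ) : ℤ))
        (Finset.mem_univ j), dn_self,
      Finset.prod_congr rfl (fun k hk => by rw [dn_ne β 1 (Finset.ne_of_mem_erase hk)])]
    have h2 := mul_descFactorial (β j) (σ j : Fin m)
    linear_combination (sg σ * ∏ x ∈ univ.erase j, (((β x).descFactorial (σ x : Fin m) : ℕ) : ℤ)) * h2
  rw [Finset.sum_congr rfl (fun j _ => h1 j), ← Finset.sum_mul, Finset.sum_sub_distrib,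
    Equiv.sum_comp σ (fun i : Fin m => ((i : ℕ) : ℤ))]

theorem vac_mul (β : Fin m → ℕ) (h : ∑ i, β i = ∑ i : Fin m, (i : ℕ)) :
    vac β * ∏ i, ((β i).factorial : ℤ) = DD β := by
  unfold vac DD
  rw [Finset.sum_mul]
  refine Finset.sum_congr rfl fun σ _ => ?_
  by_cases hβ : β = fun i => ((σ i : Fin m) : ℕ)
  · rw [if_pos hβ]
    congr 1
    refine Finset.prod_congr rfl fun i _ => ?_
    have : β i = ((σ i : Fin m) : ℕ) := congrFun hβ i
    rw [← this, Nat.descFactorial_self]
  · rw [if_neg hβ, zero_mul]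
    have h1 : ∃ i, β i < ((σ i : Fin m) : ℕ) := by
      by_contra hno
      push Not at hno
      apply hβ
      have h2 : ∑ i, ((σ i : Fin m) : ℕ) = ∑ i, β i := by
        rw [h]; exact Equiv.sum_comp σ (fun i : Fin m => (i : ℕ))
      have h3 := (Finset.sum_eq_sum_iff_of_le (fun i _ => hno i)).mp h2
      funext i
      exact (h3 i (Finset.mem_univ i)).symm
    obtain ⟨i, hi⟩ := h1
    symm
    apply mul_eq_zero_of_right
    apply Finset.prod_eq_zero (Finset.mem_univ i)
    rw [Nat.descFactorial_of_lt hi]; simp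

/-- **The degree formula**, determinantal form. -/
theorem FM_ones_mul (n : ℕ) (β : Fin m → ℕ) (hs : ∑ i, β i = n + ∑ i : Fin m, (i : ℕ)) :
    FM (Multiset.replicate n 1) β * ∏ i, ((β i).factorial : ℤ) = n.factorial * DD β := by
  induction n generalizing β with
  | zero =>
    rw [Multiset.replicate_zero, FM_zero, vac_mul β (by simpa using hs)]
    simp
  | succ n ih =>
    rw [Multiset.replicate_succ, FM_cons, Finset.sum_mul]
    have h1 : ∀ j, (if 1 ≤ β j then FM (Multiset.replicate n 1) (dn β j 1) else 0) *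
        ∏ i, ((β i).factorial : ℤ) = n.factorial * ((β j : ℤ) * DD (dn β j 1)) := by
      intro j
      split_ifs with hj
      · have h2 : ∏ i, ((β i).factorial : ℤ) =
            (β j : ℤ) * ∏ i, ((dn β j 1 i).factorial : ℤ) := by
          have h4 : ∏ i ∈ univ.erase j, ((dn β j 1 i).factorial : ℤ) =
              ∏ i ∈ univ.erase j, ((β i).factorial : ℤ) :=
            Finset.prod_congr rfl (fun k hk => by rw [dn_ne β 1 (Finset.ne_of_mem_erase hk)])
          rw [← Finset.mul_prod_erase _ _ (Finset.mem_univ j),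
            ← Finset.mul_prod_erase _ (fun i => ((dn β j 1 i).factorial : ℤ)) (Finset.mem_univ j),
            dn_self, h4]
          obtain ⟨c, hc⟩ : ∃ c, β j = c + 1 := ⟨β j - 1, by omega⟩
          rw [hc, Nat.add_sub_cancel, Nat.factorial_succ]
          push_cast
          ring
        have h3 := ih (dn β j 1) (by have := sum_dn β j hj; omega)
        rw [h2]
        linear_combination (β j : ℤ) * h3
      · have : β j = 0 := by omega
        rw [this]; simp
    rw [Finset.sum_congr rfl (fun j _ => h1 j), ← Finset.mul_sum, sum_mul_DD_dn]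
    have h2 : (∑ j, (β j : ℤ)) - ∑ i : Fin m, ((i : ℕ) : ℤ) = n + 1 := by
      have : (∑ j, (β j : ℤ)) = ((n + 1 : ℕ) : ℤ) + ∑ i : Fin m, ((i : ℕ) : ℤ) := by
        exact_mod_cast hs
      rw [this]; push_cast; ring
    rw [h2, Nat.factorial_succ]
    push_cast
    ring

/-- **The degree formula.** -/
theorem FM_ones_formula (n : ℕ) (β : Fin m → ℕ) (hs : ∑ i, β i = n + ∑ i : Fin m, (i : ℕ)) :
    FM (Multiset.replicate n 1) β * ∏ i, ((β i).factorial : ℤ) =
      n.factorial * ∏ i : Fin m, ∏ j ∈ Finset.Ioi i, ((β j : ℤ) - β i) := by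
  rw [FM_ones_mul n β hs, DD_eq_prod]

end Cfsg.Agent.H614
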